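import Cfsg.Prelude.Def_Blocks
import Cfsg.Agent.OddOrderCharacters.PF9.CliffGen
import Cfsg.Agent.Blocks.Knorr
import Cfsg.Agent.Blocks.Over
import Cfsg.Agent.Blocks.Deflate
import Cfsg.Agent.S0864

/-!
# Characters of degree divisible by `p` and normal subgroups (helper670)

* `exists_linear_constituent` : a character of a `p`-group of degree prime to `p` has a linear
  constituent;
* `exists_ext` : a linear character `lam` of a normal `p`-subgroup `N` extends to `G` if some
  irreducible character of degree prime to `p` restricts to a multiple of `lam`;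
* `comm_mem` : `N` a nontrivial normal `p`-subgroup of `G` such that all irreducible characters of
  `G` with `N` not in their kernel have degree prime to `p`; suppose the Itô-Michler theorem holds for
  the sections `T ⧸ N`. Then `P' ≤ N` for the Sylow `p`-subgroups `P` of `G`.
-/

set_option autoImplicit false

open Cfsg
open scoped ComplexConjugate

namespace Cfsg.Agent.H670.PSing

open Cfsg.Agent.Characters.Core Cfsg.Agent.OddOrderCharacters.IndRes
  Cfsg.Agent.OddOrderCharacters.PF9.CliffGen Cfsg.Agent.Blocks.Knorr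

universe u

/-- The number of irreducible characters of degree divisible by `p`. -/
noncomputable def nSing (p : ℕ) (G : Type u) [Group G] : ℕ :=
  Nat.card {χ : IrrCharacter G // p ∣ charDegree (χ : G → ℂ)}

theorem charDegree_eq_of {G : Type u} [Group G] {χ : G → ℂ} {n : ℕ} (h : χ 1 = n) :
    charDegree χ = n := by
  rw [charDegree, h, Complex.natCast_re, Nat.floor_natCast]

theorem charDegree_pgroup {p : ℕ} [hp : Fact p.Prime] {P : Type u} [Group P] [Finite P]
    (hP : IsPGroup p P) {χ : P → ℂ} (hχ : IsIrrCharacter P χ) :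
    charDegree χ = 1 ∨ p ∣ charDegree χ := by
  have h := charDegree_dvd hχ
  obtain ⟨k, hk⟩ := (IsPGroup.iff_card (p := p) (G := P)).1 hP
  rw [hk, Nat.dvd_prime_pow hp.out] at h
  obtain ⟨j, -, hj⟩ := h
  rcases Nat.eq_zero_or_pos j with h0 | h0
  · left; rw [hj, h0, pow_zero]
  · right; rw [hj]; exact dvd_pow_self p h0.ne'

/-- A character of a `p`-group of degree prime to `p` has a linear constituent. -/
theorem exists_linear_constituent {p : ℕ} [hp : Fact p.Prime] {P : Type u} [Group P] [Finite P]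
    [Fintype P] (hP : IsPGroup p P) {χ : P → ℂ} (hχ : IsCharacter P χ) {d : ℕ} (hd : χ 1 = d)
    (hpd : ¬ p ∣ d) : ∃ ν : P →* ℂˣ, classInner χ (fun x => (ν x : ℂ)) ≠ 0 := by
  classical
  have : Finite (IrrCharacter P) := finite_irr
  have : Fintype (IrrCharacter P) := Fintype.ofFinite _
  obtain ⟨m, hm⟩ := isCharacter_iff.1 hχ
  by_contra hcon
  push Not at hcon
  apply hpd
  have key : ∀ ψ : IrrCharacter P, p ∣ m ψ * charDegree (ψ : P → ℂ) := by
    intro ψ
    rcases charDegree_pgroup hP ψ.2 with h1 | h1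
    · have h2 : (ψ : P → ℂ) 1 = 1 := by rw [charDegree_eq ψ.2, h1, Nat.cast_one]
      obtain ⟨f, hf⟩ := Characters.Linear.exists_hom_of_isIrrCharacter ψ.2 h2
      have h3 := hcon f
      rw [← hf, hm, classInner_sum_nsmul_irr] at h3
      have h4 : m ψ = 0 := by exact_mod_cast h3
      rw [h4, zero_mul]; exact dvd_zero p
    · exact Dvd.dvd.mul_left h1 _
  have h1 : (d : ℂ) = ((∑ ψ : IrrCharacter P, m ψ * charDegree (ψ : P → ℂ) : ℕ) : ℂ) := by
    rw [← hd, hm, Finset.sum_apply, Nat.cast_sum]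
    refine Finset.sum_congr rfl fun ψ _ => ?_
    rw [Pi.smul_apply, nsmul_eq_mul, charDegree_eq ψ.2, Nat.cast_mul]
  have h2 : d = ∑ ψ : IrrCharacter P, m ψ * charDegree (ψ : P → ℂ) := by exact_mod_cast h1
  rw [h2]
  exact Finset.dvd_sum fun ψ _ => key ψ

/-- A linear character `lam` of a normal `p`-subgroup `N` extends to `G` if some irreducible
character of degree prime to `p` restricts to a multiple of `lam`. -/
theorem exists_ext {G : Type u} [Group G] [Finite G] {p : ℕ} [hp : Fact p.Prime]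
    (N : Subgroup G) [hN : N.Normal] (hNp : IsPGroup p N) (lam : N →* ℂˣ)
    {ψ : G → ℂ} (hψ : IsIrrCharacter G ψ) (hdeg : ¬ p ∣ charDegree ψ)
    (hres : ∀ n : N, ψ n = ψ 1 * lam n) :
    ∃ F : G →* ℂˣ, ∀ n : N, F n = lam n := by
  classical
  have : Fintype G := Fintype.ofFinite G
  have hψ1 : ψ 1 ≠ 0 := isIrr_apply_one_ne_zero hψ
  have hcl := isIrr_isClassFunction hψ
  have hinv : ∀ (g : G) (n : N),
      ((lam ⟨g * n * g⁻¹, hN.conj_mem (n : G) n.2 g⟩ : ℂˣ) : ℂ) = (lam n : ℂ) := by
    intro g n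
    have h1 := hres ⟨g * n * g⁻¹, hN.conj_mem (n : G) n.2 g⟩
    have h2 : ψ (g * n * g⁻¹) = ψ n := hcl n g
    have h3 : ψ 1 * ((lam ⟨g * n * g⁻¹, hN.conj_mem (n : G) n.2 g⟩ : ℂˣ) : ℂ) = ψ 1 * (lam n : ℂ) := by
      rw [← h1, ← hres n]; exact h2
    exact mul_left_cancel₀ hψ1 h3
  obtain ⟨P⟩ : Nonempty (Sylow p G) := inferInstance
  have hNP : N ≤ (P : Subgroup G) := hNp.le_sylow_of_normal P
  have : Fintype (P : Subgroup G) := Fintype.ofFinite _
  have : Fintype N := Fintype.ofFinite _
  have hresP : IsCharacter (P : Subgroup G) (res (P : Subgroup G) ψ) :=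
    isCharacter_res _ (isIrr_isCharacter hψ)
  obtain ⟨ν, hν⟩ := exists_linear_constituent P.isPGroup' hresP
    (d := charDegree ψ) (by show ψ 1 = _; exact charDegree_eq hψ) hdeg
  have hνirr : IsIrrCharacter (P : Subgroup G) (fun x => (ν x : ℂ)) :=
    Characters.Linear.isIrrCharacter_hom ν
  -- the remainder
  have hrem := OddOrderCharacters.Clifford.isCharacter_sub_irr hresP hνirr hν
  let ν' : N →* ℂˣ := ν.comp (Subgroup.inclusion hNP)
  have hlam : ∀ n : N, ν ⟨n, hNP n.2⟩ = lam n := by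
    by_contra hne
    have hne' : (fun n : N => (lam n : ℂ)) ≠ fun n : N => (ν' n : ℂ) := by
      intro h
      apply hne
      intro n
      have := congrFun h n
      exact (Units.ext this).symm
    have h1 : classInner (res N ψ) (fun n : N => (ν' n : ℂ)) = 0 := by
      have : res N ψ = ψ 1 • fun n : N => (lam n : ℂ) := by
        funext n
        exact hres n
      rw [this, classInner_smul_left, classInner_irr_ne
        (Characters.Linear.isIrrCharacter_hom lam) (Characters.Linear.isIrrCharacter_hom ν') hne',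
        mul_zero]
    have h2 : res N ψ = (fun n : N => (ν' n : ℂ)) +
        resTo hNP (res (P : Subgroup G) ψ - fun x => (ν x : ℂ)) := by
      funext n
      show ψ n = (ν' n : ℂ) + (ψ n - (ν ⟨n, hNP n.2⟩ : ℂ))
      have : ν' n = ν ⟨n, hNP n.2⟩ := rfl
      rw [this]; ring
    obtain ⟨k, hk⟩ := classInner_isNat (isCharacter_resTo hNP hrem)
      (Characters.Linear.isCharacter_hom ν')
    rw [h2, classInner_add_left, classInner_irr_self (Characters.Linear.isIrrCharacter_hom ν'),
      hk] at h1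
    have : (1 + k : ℕ) = 0 := by exact_mod_cast h1
    omega
  obtain ⟨μ, hμ, hμ1, hμN⟩ := Cfsg.Agent.S0864.result N (fun n : N => (lam n : ℂ))
    ⟨Characters.Linear.isCharacter_hom lam, by simp⟩ hinv (by
      intro q hq hqo
      -- the order of `lam` is a power of `p`
      have hqp : q = p := by
        obtain ⟨k, hk⟩ := (IsPGroup.iff_card (p := p) (G := N)).1 hNp
        have h1 : (fun n : N => (lam n : ℂ)) ^ (p ^ k) = 1 := by
          funext n
          show (lam n : ℂ) ^ (p ^ k) = 1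
          rw [← Units.val_pow_eq_pow_val, ← map_pow, ← hk, pow_card_eq_one', map_one, Units.val_one]
        have h2 := orderOf_dvd_of_pow_eq_one h1
        exact (Nat.prime_dvd_prime_iff_eq hq hp.out).1 (hq.dvd_of_dvd_pow (hqo.trans h2))
      subst hqp
      refine ⟨(P : Subgroup G), hNP, fun x => (ν x : ℂ), ?_, ?_, Characters.Linear.isCharacter_hom ν,
        by simp, fun n => ?_⟩
      · exact Nat.Coprime.symm ((Nat.Prime.coprime_iff_not_dvd hq).2 P.not_dvd_index)
      · obtain ⟨k, hk⟩ := (IsPGroup.iff_card (p := q) (G := (P : Subgroup G))).1 P.isPGroup'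
        have h1 : N.relIndex (P : Subgroup G) ∣ q ^ k := by
          rw [← hk]
          exact Subgroup.index_dvd_card _
        obtain ⟨j, -, hj⟩ := (Nat.dvd_prime_pow hq).1 h1
        exact ⟨j, hj⟩
      · show ((ν ⟨(n : G), hNP n.2⟩ : ℂˣ) : ℂ) = lam n
        rw [hlam n])
  obtain ⟨F, hF⟩ := Characters.Linear.exists_hom_of_isCharacter hμ hμ1
  refine ⟨F, fun n => Units.ext ?_⟩
  rw [← hμN n, hF]

/-- The Itô-Michler property of the group `X` at the prime `p`. -/
def IM (p : ℕ) (X : Type u) [Group X] : Prop :=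
  (∀ β : X → ℂ, IsIrrCharacter X β → ¬ p ∣ charDegree β) →
    ∀ P : Sylow p X, (P : Subgroup X).Normal ∧
      ∀ a ∈ (P : Subgroup X), ∀ b ∈ (P : Subgroup X), a * b = b * a

/-- An irreducible character over a nontrivial irreducible character of `N` is not trivial
on `N`. -/
theorem exists_ne_of_over {G : Type u} [Group G] (N : Subgroup G) [Fintype N] {θ : N → ℂ}
    (hθ : IsIrrCharacter N θ) (hne : θ ≠ 1) {χ : G → ℂ}
    (h : classInner (res N χ) θ ≠ 0) : ∃ n ∈ N, χ n ≠ χ 1 := by
  by_contra hcon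
  push Not at hcon
  apply h
  have h1 : res N χ = χ 1 • (1 : N → ℂ) := by
    funext n
    rw [res_apply, hcon n n.2, Pi.smul_apply, Pi.one_apply, smul_eq_mul, mul_one]
  rw [h1, classInner_smul_left, classInner_irr_ne isIrr_one hθ hne.symm, mul_zero]

theorem exists_linear_ne_one {p : ℕ} [hp : Fact p.Prime] {N : Type u} [Group N] [Finite N]
    (hN : IsPGroup p N) [Nontrivial N] : ∃ lam : N →* ℂˣ, lam ≠ 1 := by
  have : Group.IsNilpotent N := hN.isNilpotent
  by_contra hcon
  push Not at hcon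
  have h1 : Nat.card (N →* ℂˣ) = 1 :=
    Nat.card_eq_one_iff_unique.2 ⟨⟨fun a b => by rw [hcon a, hcon b]⟩, ⟨1⟩⟩
  rw [Characters.Linear.card_hom_eq_index_commutator, Subgroup.index_eq_one] at h1
  exact (Group.IsSolvable.commutator_lt_top_of_nontrivial N).ne h1

theorem comm_mem {G : Type u} [Group G] [Finite G] {p : ℕ} [hp : Fact p.Prime]
    (N : Subgroup G) [hN : N.Normal] (hNp : IsPGroup p N) (hN1 : N ≠ ⊥)
    (hdeg : ∀ χ : G → ℂ, IsIrrCharacter G χ → (∃ n ∈ N, χ n ≠ χ 1) → ¬ p ∣ charDegree χ)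
    (hIM : ∀ T : Subgroup G, N ≤ T → IM p (T ⧸ N.subgroupOf T)) (P : Sylow p G) :
    ∀ a ∈ (P : Subgroup G), ∀ b ∈ (P : Subgroup G), a * b * a⁻¹ * b⁻¹ ∈ N := by
  classical
  have : Fintype G := Fintype.ofFinite G
  have : Fintype N := Fintype.ofFinite _
  have hNt : Nontrivial N := (Subgroup.nontrivial_iff_ne_bot N).2 hN1
  obtain ⟨lam, hlam⟩ := exists_linear_ne_one hNp
  set θ : N → ℂ := fun n => (lam n : ℂ) with hθdef
  have hθ : IsIrrCharacter N θ := Characters.Linear.isIrrCharacter_hom lam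
  have hθ1 : θ ≠ 1 := by
    intro h
    apply hlam
    ext n
    exact congrFun h n
  set T : Subgroup G := inertia N θ with hTdef
  have hTmem : ∀ g, g ∈ T ↔ OddOrderCharacters.NormalInduced.conjFn N θ g = θ := fun g => Iff.rfl
  have hNT : N ≤ T := le_inertia (isIrr_isClassFunction hθ)
  have : Fintype T := Fintype.ofFinite _
  obtain ⟨χ, hχ⟩ := Blocks.Over.exists_over N ⟨θ, hθ⟩
  obtain ⟨ψ, hψ, hψθ, hψχ⟩ := exists_ind hθ hTmem hNT χ.2 hχ
  have hχdeg := hdeg _ χ.2 (exists_ne_of_over N hθ hθ1 hχ)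
  have hdegind : ∀ φ : T → ℂ, IsIrrCharacter T φ →
      charDegree (indFun T φ) = T.index * charDegree φ := by
    intro φ hφ
    apply charDegree_eq_of
    rw [indFun_apply_one, charDegree_eq hφ, Nat.cast_mul]
  rw [hψχ, hdegind ψ hψ] at hχdeg
  have hTidx : ¬ p ∣ T.index := fun h => hχdeg (Dvd.dvd.mul_right h _)
  have hψdeg : ¬ p ∣ charDegree ψ := fun h => hχdeg (Dvd.dvd.mul_left h _)
  have hψres := resTo_linear (fun g hg => (hTmem g).1 hg) hNT hψ hψθ
  -- extension of `lam` to `T`
  have hN₁p : IsPGroup p (N.subgroupOf T) := hNp.of_equiv (Subgroup.subgroupOfEquivOfLe hNT).symm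
  obtain ⟨F, hF⟩ := exists_ext (N.subgroupOf T) hN₁p
    (lam.comp (Subgroup.subgroupOfEquivOfLe hNT).toMonoidHom) hψ hψdeg (by
      intro n
      have := hψres ⟨((n : T) : G), Subgroup.mem_subgroupOf.1 n.2⟩
      exact this)
  have hF' : ∀ n : N, F ⟨n, hNT n.2⟩ = lam n := by
    intro n
    exact hF ⟨⟨n, hNT n.2⟩, Subgroup.mem_subgroupOf.2 n.2⟩
  -- all characters of `T ⧸ N` have degree prime to `p`
  have hIMT := hIM T hNT (by
    intro β hβ hpβ
    set β' : T → ℂ := β ∘ (QuotientGroup.mk' (N.subgroupOf T)) with hβ'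
    have hβirr : IsIrrCharacter T β' :=
      isIrr_comp (QuotientGroup.mk' (N.subgroupOf T)) (QuotientGroup.mk'_surjective _) hβ
    have hker : ∀ n : N, β' ⟨n, hNT n.2⟩ = β' 1 := by
      intro n
      show β (QuotientGroup.mk' (N.subgroupOf T) ⟨n, hNT n.2⟩) =
        β (QuotientGroup.mk' (N.subgroupOf T) 1)
      congr 1
      rw [map_one]
      exact (QuotientGroup.eq_one_iff _).2 (Subgroup.mem_subgroupOf.2 n.2)
    have hφ : IsIrrCharacter T (fun t => (F t : ℂ) * β' t) :=
      OddOrderCharacters.InertiaAbelian.isIrr_mul_hom F hβirr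
    have hirr := irr_twist hTmem hNT hF' hβirr hker
    refine hdeg _ hirr ?_ ?_
    · by_contra hcon
      push Not at hcon
      have h1 : classInner (res T (indFun T (fun t => (F t : ℂ) * β' t)))
          (fun t => (F t : ℂ) * β' t) ≠ 0 := by
        rw [← classInner_indFun_right T _ (isClassFunction_indFun T _), classInner_irr_self hirr]
        exact one_ne_zero
      have h2 : ∀ n : N, lam n = 1 := by
        intro n
        have h3 := constituent_ker (isCharacter_res T (isIrr_isCharacter hirr)) hφ h1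
          (y := ⟨n, hNT n.2⟩) (by
            show indFun T (fun t => (F t : ℂ) * β' t) n =
              indFun T (fun t => (F t : ℂ) * β' t) 1
            exact hcon n n.2)
        have h4 : β' 1 ≠ 0 := isIrr_apply_one_ne_zero hβirr
        simp only [hF', hker, map_one, Units.val_one, one_mul] at h3
        have h5 : (lam n : ℂ) = 1 := by
          have : ((lam n : ℂ) - 1) * β' 1 = 0 := by rw [sub_mul, h3, one_mul, sub_self]
          rcases mul_eq_zero.1 this with h | h
          · exact sub_eq_zero.1 h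
          · exact absurd h h4
        exact Units.ext h5
      exact hlam (MonoidHom.ext h2)
    · rw [hdegind _ hφ]
      apply Dvd.dvd.mul_left
      have h6 : charDegree (fun t => (F t : ℂ) * β' t) = charDegree β := by
        apply charDegree_eq_of
        simp only [map_one, Units.val_one, one_mul]
        rw [hβ']
        show β (QuotientGroup.mk' (N.subgroupOf T) 1) = _
        rw [map_one, charDegree_eq hβ]
      rw [h6]
      exact hpβ)
  -- Sylow subgroups
  obtain ⟨P₁⟩ : Nonempty (Sylow p T) := inferInstance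
  have hcomm₁ : ∀ a ∈ (P₁ : Subgroup T), ∀ b ∈ (P₁ : Subgroup T),
      a * b * a⁻¹ * b⁻¹ ∈ N.subgroupOf T := by
    intro a ha b hb
    have h := (hIMT (P₁.mapSurjective (QuotientGroup.mk'_surjective (N.subgroupOf T)))).2
      (QuotientGroup.mk' _ a) (Subgroup.mem_map_of_mem _ ha)
      (QuotientGroup.mk' _ b) (Subgroup.mem_map_of_mem _ hb)
    rw [← QuotientGroup.eq_one_iff]
    show QuotientGroup.mk' (N.subgroupOf T) (a * b * a⁻¹ * b⁻¹) = 1
    rw [map_mul, map_mul, map_mul, map_inv, map_inv, h]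
    group
  have hP₂ : IsPGroup p ((P₁ : Subgroup T).map T.subtype) := P₁.isPGroup'.map _
  have hP₂i : ¬ p ∣ ((P₁ : Subgroup T).map T.subtype).index := by
    rw [Subgroup.index_map_subtype]
    exact Nat.Prime.not_dvd_mul hp.out P₁.not_dvd_index hTidx
  obtain ⟨g, hg⟩ := MulAction.exists_smul_eq G (hP₂.toSylow hP₂i) P
  have hmem : ∀ a ∈ (P : Subgroup G), ∃ a' : T, a' ∈ (P₁ : Subgroup T) ∧
      a = g * (a' : G) * g⁻¹ := by
    intro a ha
    rw [← hg, Sylow.coe_subgroup_smul, IsPGroup.toSylow_coe] at ha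
    obtain ⟨x, ⟨a', ha', rfl⟩, rfl⟩ := ha
    exact ⟨a', ha', rfl⟩
  intro a ha b hb
  obtain ⟨a', ha', rfl⟩ := hmem a ha
  obtain ⟨b', hb', rfl⟩ := hmem b hb
  have h := hcomm₁ a' ha' b' hb'
  have h' : ((a' : G) * b' * (a' : G)⁻¹ * (b' : G)⁻¹) ∈ N := Subgroup.mem_subgroupOf.1 h
  have h'' := hN.conj_mem _ h' g
  have : g * (a' : G) * g⁻¹ * (g * b' * g⁻¹) * (g * a' * g⁻¹)⁻¹ * (g * b' * g⁻¹)⁻¹ =
      g * ((a' : G) * b' * (a' : G)⁻¹ * (b' : G)⁻¹) * g⁻¹ := by group
  rw [this]
  exact h''

end Cfsg.Agent.H670.PSing
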