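import Cfsg.Agent.H670.RankOneCount
import Mathlib

/-!
# Rank one groups where the torus is transitive on the root group (helper670)
-/

set_option autoImplicit false

open Cfsg
open scoped ComplexConjugate

namespace Cfsg.Agent.H670.RankOne

open Cfsg.Agent.Characters.Core

universe u v

/-- Summation by types. -/
theorem sum_types {ι κ : Type*} [Fintype ι] [DecidableEq κ] (g : ι → κ) (t : Finset κ)
    (h : ∀ i, g i ∈ t) (f : κ → ℕ) :
    ∑ i : ι, f (g i) = ∑ y ∈ t, (Finset.univ.filter fun i => g i = y).card * f y := by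
  rw [← Finset.sum_fiberwise_of_maps_to (s := Finset.univ) (t := t) (g := g) (fun i _ => h i)]
  refine Finset.sum_congr rfl fun y _ => ?_
  rw [Finset.sum_congr rfl (g := fun _ => f y), Finset.sum_const, smul_eq_mul]
  intro i hi
  rw [(Finset.mem_filter.1 hi).2]

namespace Data

variable {G : Type u} [Group G] {F : Type v} [Field F] [Fintype F] (D : Data G F) [Fintype G]

omit [Fintype G] in
theorem n_ne_zero_of_cusp (χ : IrrCharacter G) (h : D.n χ 0 = 0) : ∃ c : F, c ≠ 0 ∧ D.n χ c ≠ 0 := by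
  by_contra hc
  push Not at hc
  have h1 := D.degree_eq χ
  rw [Finset.sum_eq_zero, Nat.cast_zero] at h1
  · exact isIrr_apply_one_ne_zero χ.2 h1
  · intro c _
    by_cases h0 : c = 0
    · rw [h0, h]
    · exact hc c h0

theorem n_of_two (χ : IrrCharacter G) (h : D.n χ 0 = 2) {c : F} (hc : c ≠ 0) : D.n χ c = 1 := by
  rw [n_eq_iff] at h ⊢
  rcases D.trichotomy χ.2 with h1 | ⟨h1, _⟩ | ⟨_, lam, _, hl⟩
  · rw [h1] at h; norm_num at h
  · rw [h1] at h; norm_num at h
  · rw [hl, D.cf_ind hc, Nat.cast_one]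

theorem n_zero_cases (χ : IrrCharacter G) : D.n χ 0 = 0 ∨ D.n χ 0 = 1 ∨ D.n χ 0 = 2 := by
  rcases D.trichotomy χ.2 with h | ⟨h, _⟩ | ⟨h, _⟩
  · left; rw [n_eq_iff, h, Nat.cast_zero]
  · right; left; rw [n_eq_iff, h, Nat.cast_one]
  · right; right; rw [n_eq_iff, h]; norm_num

section surj

variable (hA : HasAnti D) (ha : Function.Surjective D.a)

omit [Fintype G] in
include ha in
theorem n_eq_n_one (χ : IrrCharacter G) {c : F} (hc : c ≠ 0) : D.n χ c = D.n χ 1 := by
  obtain ⟨t, ht⟩ := ha (Units.mk0 c hc)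
  have := D.n_mul χ t 1
  rw [mul_one, ht, Units.val_mk0] at this
  exact this

omit [Fintype G] in
include ha in
theorem sum_n_eq (χ : IrrCharacter G) :
    ∑ c : F, D.n χ c = D.n χ 0 + (Fintype.card F - 1) * D.n χ 1 := by
  classical
  rw [← Finset.add_sum_erase Finset.univ _ (Finset.mem_univ (0 : F))]
  congr 1
  rw [Finset.sum_congr rfl (g := fun _ => D.n χ 1), Finset.sum_const,
    Finset.card_erase_of_mem (Finset.mem_univ _), Finset.card_univ, smul_eq_mul]
  intro c hc
  exact D.n_eq_n_one ha χ (Finset.ne_of_mem_erase hc)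

include hA ha in
theorem types_surj (χ : IrrCharacter G) :
    (D.n χ 0, D.n χ 1) ∈ ({(2, 1), (1, 0), (1, 1), (0, 1)} : Finset (ℕ × ℕ)) := by
  simp only [Finset.mem_insert, Finset.mem_singleton, Prod.mk.injEq]
  rcases D.n_zero_cases χ with h | h | h
  · obtain ⟨c, hc, hn⟩ := D.n_ne_zero_of_cusp χ h
    rw [D.n_eq_n_one ha χ hc] at hn
    rcases D.n_le_one hA χ (one_ne_zero (α := F)) with h1 | h1
    · exact absurd h1 hn
    · simp [h, h1]
  · rcases D.n_le_one hA χ (one_ne_zero (α := F)) with h1 | h1 <;> simp [h, h1]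
  · rw [D.n_of_two χ h one_ne_zero]; simp [h]

include hA ha in
/-- The degrees, in the transitive case. -/
theorem degree_cases_surj {χ : G → ℂ} (hχ : IsIrrCharacter G χ) :
    χ 1 = 1 ∨ χ 1 = (Fintype.card F : ℂ) - 1 ∨ χ 1 = (Fintype.card F : ℂ) ∨
      χ 1 = (Fintype.card F : ℂ) + 1 := by
  have h1 := D.degree_eq ⟨χ, hχ⟩
  have h2 := D.types_surj hA ha ⟨χ, hχ⟩
  simp only [Finset.mem_insert, Finset.mem_singleton, Prod.mk.injEq] at h2
  have h3 : χ 1 = ((∑ c : F, D.n ⟨χ, hχ⟩ c : ℕ) : ℂ) := h1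
  have hpos : 1 ≤ Fintype.card F := Fintype.card_pos
  rw [D.sum_n_eq ha, Nat.cast_add, Nat.cast_mul, Nat.cast_sub hpos] at h3
  rcases h2 with ⟨a1, a2⟩ | ⟨a1, a2⟩ | ⟨a1, a2⟩ | ⟨a1, a2⟩ <;> rw [a1, a2] at h3
  · right; right; right
    rw [h3]; push_cast; ring
  · left
    rw [h3]; push_cast; ring
  · right; right; left
    rw [h3]; push_cast; ring
  · right; left
    rw [h3]; push_cast; ring

open scoped Classical in
include hA ha in
/-- The counting identities, in the transitive case. -/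
theorem counts_surj [Fintype (IrrCharacter G)] [Fintype (D.T →* ℂˣ)] (f : ℕ)
    (hf : (Finset.univ.filter fun lam : D.T →* ℂˣ => lam = lam.comp D.wT).card = f) :
    (Finset.univ.filter fun χ : IrrCharacter G => (D.n χ 0, D.n χ 1) = (2, 1)).card * 2 + f =
      Nat.card D.T ∧
    (Finset.univ.filter fun χ : IrrCharacter G => (D.n χ 0, D.n χ 1) = (1, 0)).card = f ∧
    (Finset.univ.filter fun χ : IrrCharacter G => (D.n χ 0, D.n χ 1) = (1, 1)).card = f ∧
    (Finset.univ.filter fun χ : IrrCharacter G => (D.n χ 0, D.n χ 1) = (0, 1)).card +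
      (Finset.univ.filter fun χ : IrrCharacter G => (D.n χ 0, D.n χ 1) = (2, 1)).card + f =
      Nat.card D.T + Nat.card D.a.ker := by
  have e1 := D.sum_n_zero_sq
  have e2 := D.sum_n_zero_mul_n (one_ne_zero (α := F))
  have e3 := D.sum_n_sq (one_ne_zero (α := F))
  have e4 := D.card_two_mul_two
  have ht := D.types_surj hA ha
  have k1 := sum_types (fun χ : IrrCharacter G => (D.n χ 0, D.n χ 1)) _ ht (fun p => p.1 * p.1)
  have k2 := sum_types (fun χ : IrrCharacter G => (D.n χ 0, D.n χ 1)) _ ht (fun p => p.1 * p.2)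
  have k3 := sum_types (fun χ : IrrCharacter G => (D.n χ 0, D.n χ 1)) _ ht (fun p => p.2 * p.2)
  have k4 := sum_types (fun χ : IrrCharacter G => (D.n χ 0, D.n χ 1)) _ ht
    (fun p => if p.1 = 2 then 1 else 0)
  simp only at k1 k2 k3 k4
  rw [e1] at k1
  rw [e2] at k2
  rw [e3] at k3
  have e5 : (Finset.univ.filter fun lam : D.T →* ℂˣ => lam = lam.comp D.wT).card +
      (Finset.univ.filter fun lam : D.T →* ℂˣ => lam ≠ lam.comp D.wT).card = Nat.card D.T := by
    rw [Finset.card_filter_add_card_filter_not, Finset.card_univ, ← Nat.card_eq_fintype_card,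
      card_hom D.comm_T]
  rw [← Finset.card_filter] at k4
  rw [e4, hf, k4] at e5
  rw [Finset.sum_insert (by decide), Finset.sum_insert (by decide), Finset.sum_insert (by decide),
    Finset.sum_singleton] at k1 k2 k3 e5
  have d1 : ¬ ((1 : ℕ) = 2) := by decide
  have d0 : ¬ ((0 : ℕ) = 2) := by decide
  simp only [mul_zero, mul_one, add_zero, zero_add, if_true, if_neg d1, if_neg d0] at k1 k2 k3 e5
  omega

open scoped Classical in
include hA ha in
theorem card_degree_eq [Fintype (IrrCharacter G)] (z : ℂ) (d : ℕ) (hz : z = d) (ty : ℕ × ℕ)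
    (h : ∀ p ∈ ({(2, 1), (1, 0), (1, 1), (0, 1)} : Finset (ℕ × ℕ)),
      p.1 + (Fintype.card F - 1) * p.2 = d ↔ p = ty) :
    Nat.card {χ : IrrCharacter G // (χ : G → ℂ) 1 = z} =
      (Finset.univ.filter fun χ : IrrCharacter G => (D.n χ 0, D.n χ 1) = ty).card := by
  rw [Nat.card_eq_fintype_card, Fintype.card_subtype]
  congr 1
  ext χ
  rw [Finset.mem_filter, Finset.mem_filter, and_congr_right_iff]
  intro _
  rw [D.degree_eq, D.sum_n_eq ha, hz, Nat.cast_inj, ← h _ (D.types_surj hA ha χ)]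

include hA ha in
/-- The number of irreducible characters of each degree, in the transitive case. -/
theorem card_degree_surj (hq : 3 ≤ Fintype.card F) (f : ℕ)
    (hf : Nat.card {lam : D.T →* ℂˣ // lam = lam.comp D.wT} = f) :
    Nat.card {χ : IrrCharacter G // (χ : G → ℂ) 1 = 1} = f ∧
    Nat.card {χ : IrrCharacter G // (χ : G → ℂ) 1 = (Fintype.card F : ℂ)} = f ∧
    Nat.card {χ : IrrCharacter G // (χ : G → ℂ) 1 = (Fintype.card F : ℂ) + 1} * 2 + f =
      Nat.card D.T ∧
    Nat.card {χ : IrrCharacter G // (χ : G → ℂ) 1 = (Fintype.card F : ℂ) - 1} +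
      Nat.card {χ : IrrCharacter G // (χ : G → ℂ) 1 = (Fintype.card F : ℂ) + 1} + f =
      Nat.card D.T + Nat.card D.a.ker := by
  classical
  have := finite_hom D.comm_T
  have : Fintype (D.T →* ℂˣ) := Fintype.ofFinite _
  have := finite_irr (G := G)
  have : Fintype (IrrCharacter G) := Fintype.ofFinite _
  rw [Nat.card_eq_fintype_card, Fintype.card_subtype] at hf
  obtain ⟨h1, h2, h3, h4⟩ := D.counts_surj hA ha f hf
  obtain ⟨m, hm⟩ : ∃ m, Fintype.card F = m + 3 := ⟨Fintype.card F - 3, by omega⟩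
  have t1 := D.card_degree_eq hA ha (1 : ℂ) 1 (by norm_num) (1, 0) (by
    intro p hp
    simp only [Finset.mem_insert, Finset.mem_singleton] at hp
    rcases hp with rfl | rfl | rfl | rfl <;> simp [hm] <;> omega)
  have t2 := D.card_degree_eq hA ha (Fintype.card F : ℂ) (Fintype.card F) rfl (1, 1) (by
    intro p hp
    simp only [Finset.mem_insert, Finset.mem_singleton] at hp
    rcases hp with rfl | rfl | rfl | rfl <;> simp [hm] <;> omega)
  have t3 := D.card_degree_eq hA ha ((Fintype.card F : ℂ) + 1) (Fintype.card F + 1)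
    (by push_cast; ring) (2, 1) (by
    intro p hp
    simp only [Finset.mem_insert, Finset.mem_singleton] at hp
    rcases hp with rfl | rfl | rfl | rfl <;> simp [hm] <;> omega)
  have t4 := D.card_degree_eq hA ha ((Fintype.card F : ℂ) - 1) (Fintype.card F - 1)
    (by rw [Nat.cast_sub (by omega)]; push_cast; ring) (0, 1) (by
    intro p hp
    simp only [Finset.mem_insert, Finset.mem_singleton] at hp
    rcases hp with rfl | rfl | rfl | rfl <;> simp [hm] <;> omega)
  rw [t1, t2, t3, t4]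
  exact ⟨h2, h3, h1, h4⟩

end surj

end Data

end Cfsg.Agent.H670.RankOne
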