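import Cfsg.Agent.H670.RankOneCount
import Mathlib

/-!
# `SL₂(F)` as a rank one group (helper670)
-/

set_option autoImplicit false
set_option linter.unusedSimpArgs false

open Cfsg
open scoped ComplexConjugate

namespace Cfsg.Agent.H670.SL2

open Matrix Cfsg.Agent.Characters.Core Cfsg.Agent.H670.RankOne

universe v

variable {F : Type v} [Field F]

/-- Upper unitriangular elements. -/
def x (s : F) : SpecialLinearGroup (Fin 2) F := ⟨!![1, s; 0, 1], by simp [Matrix.det_fin_two_of]⟩

/-- Diagonal elements. -/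
def tor : Fˣ →* SpecialLinearGroup (Fin 2) F where
  toFun u := ⟨!![(u : F), 0; 0, ((u⁻¹ : Fˣ) : F)], by simp [Matrix.det_fin_two_of]⟩
  map_one' := by
    ext i j
    fin_cases i <;> fin_cases j <;> simp
  map_mul' u v := by
    apply Subtype.ext
    show _ = (!![(u : F), 0; 0, ((u⁻¹ : Fˣ) : F)] : Matrix (Fin 2) (Fin 2) F) * !![(v : F), 0; 0, ((v⁻¹ : Fˣ) : F)]
    ext i j
    fin_cases i <;> fin_cases j <;> simp [mul_comm]

/-- The Weyl element. -/
def wel : SpecialLinearGroup (Fin 2) F := ⟨!![0, 1; -1, 0], by simp [Matrix.det_fin_two_of]⟩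

theorem coe_x (s : F) : (x s : Matrix (Fin 2) (Fin 2) F) = !![1, s; 0, 1] := rfl

theorem coe_tor (u : Fˣ) :
    (tor u : Matrix (Fin 2) (Fin 2) F) = !![(u : F), 0; 0, ((u⁻¹ : Fˣ) : F)] := rfl

theorem coe_wel : ((wel : SpecialLinearGroup (Fin 2) F) : Matrix (Fin 2) (Fin 2) F) =
    !![0, 1; -1, 0] := rfl

/-- Entries. -/
def e00 (g : SpecialLinearGroup (Fin 2) F) : F := (g : Matrix (Fin 2) (Fin 2) F) 0 0
/-- Entries. -/
def e01 (g : SpecialLinearGroup (Fin 2) F) : F := (g : Matrix (Fin 2) (Fin 2) F) 0 1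
/-- Entries. -/
def e10 (g : SpecialLinearGroup (Fin 2) F) : F := (g : Matrix (Fin 2) (Fin 2) F) 1 0
/-- Entries. -/
def e11 (g : SpecialLinearGroup (Fin 2) F) : F := (g : Matrix (Fin 2) (Fin 2) F) 1 1

theorem ext4 {g h : SpecialLinearGroup (Fin 2) F} (h00 : e00 g = e00 h) (h01 : e01 g = e01 h)
    (h10 : e10 g = e10 h) (h11 : e11 g = e11 h) : g = h := by
  ext i j
  fin_cases i <;> fin_cases j
  · exact h00
  · exact h01
  · exact h10
  · exact h11

theorem mul00 (g h : SpecialLinearGroup (Fin 2) F) : e00 (g * h) = e00 g * e00 h + e01 g * e10 h := by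
  simp only [e00, e01, e10, e11, Matrix.SpecialLinearGroup.coe_mul, Matrix.mul_apply, Fin.sum_univ_two]

theorem mul01 (g h : SpecialLinearGroup (Fin 2) F) : e01 (g * h) = e00 g * e01 h + e01 g * e11 h := by
  simp only [e00, e01, e10, e11, Matrix.SpecialLinearGroup.coe_mul, Matrix.mul_apply, Fin.sum_univ_two]

theorem mul10 (g h : SpecialLinearGroup (Fin 2) F) : e10 (g * h) = e10 g * e00 h + e11 g * e10 h := by
  simp only [e00, e01, e10, e11, Matrix.SpecialLinearGroup.coe_mul, Matrix.mul_apply, Fin.sum_univ_two]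

theorem mul11 (g h : SpecialLinearGroup (Fin 2) F) : e11 (g * h) = e10 g * e01 h + e11 g * e11 h := by
  simp only [e00, e01, e10, e11, Matrix.SpecialLinearGroup.coe_mul, Matrix.mul_apply, Fin.sum_univ_two]

theorem x00 (s : F) : e00 (x s) = 1 := rfl
theorem x01 (s : F) : e01 (x s) = s := rfl
theorem x10 (s : F) : e10 (x s) = 0 := rfl
theorem x11 (s : F) : e11 (x s) = 1 := rfl
theorem tor00 (u : Fˣ) : e00 (tor u) = (u : F) := rfl
theorem tor01 (u : Fˣ) : e01 (tor u) = 0 := rfl
theorem tor10 (u : Fˣ) : e10 (tor u) = 0 := rfl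
theorem tor11 (u : Fˣ) : e11 (tor u) = ((u⁻¹ : Fˣ) : F) := rfl
theorem wel00 : e00 (wel : SpecialLinearGroup (Fin 2) F) = 0 := rfl
theorem wel01 : e01 (wel : SpecialLinearGroup (Fin 2) F) = 1 := rfl
theorem wel10 : e10 (wel : SpecialLinearGroup (Fin 2) F) = -1 := rfl
theorem wel11 : e11 (wel : SpecialLinearGroup (Fin 2) F) = 0 := rfl

theorem det_eq (g : SpecialLinearGroup (Fin 2) F) : e00 g * e11 g - e01 g * e10 g = 1 := by
  have h := g.2
  rw [Matrix.det_fin_two] at h
  exact h

theorem tor_inj : Function.Injective (tor : Fˣ →* SpecialLinearGroup (Fin 2) F) := by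
  intro u v h
  apply Units.ext
  have := congrArg (fun g : SpecialLinearGroup (Fin 2) F => e00 g) h
  exact this

/-- The torus is isomorphic to the multiplicative group. -/
noncomputable def torE : Fˣ ≃* (tor : Fˣ →* SpecialLinearGroup (Fin 2) F).range :=
  MonoidHom.ofInjective tor_inj

theorem torE_coe (u : Fˣ) : ((torE u : (tor : Fˣ →* SpecialLinearGroup (Fin 2) F).range) :
    SpecialLinearGroup (Fin 2) F) = tor u := rfl

theorem tor_mul_x (u : Fˣ) (s : F) : tor u * x s = x ((u : F) ^ 2 * s) * tor u := by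
  apply ext4 <;> simp only [mul00, mul01, mul10, mul11, x00, x01, x10, x11, tor00, tor01, tor10,
    tor11]
  · ring
  · have : (u : F) * ((u⁻¹ : Fˣ) : F) = 1 := by rw [← Units.val_mul, mul_inv_cancel, Units.val_one]
    linear_combination (-(u : F) * s) * this
  · ring
  · ring

theorem wel_mul_tor (u : Fˣ) : wel * tor u = tor u⁻¹ * wel := by
  apply ext4 <;> simp only [mul00, mul01, mul10, mul11, wel00, wel01, wel10, wel11, tor00, tor01,
    tor10, tor11, inv_inv] <;> ring

/-- The rank one datum of `SL₂(F)`. -/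
noncomputable def data (F : Type v) [Field F] : Data (SpecialLinearGroup (Fin 2) F) F where
  X := x
  T := (tor : Fˣ →* SpecialLinearGroup (Fin 2) F).range
  w := wel
  a := (powMonoidHom 2).comp torE.symm.toMonoidHom
  X_add r s := by
    apply ext4 <;> simp only [mul00, mul01, mul10, mul11, x00, x01, x10, x11] <;> ring
  X_inj r s h := by
    have := congrArg (fun g : SpecialLinearGroup (Fin 2) F => e01 g) h
    exact this
  conj_X t s := by
    obtain ⟨u, rfl⟩ := torE.surjective t
    rw [mul_inv_eq_iff_eq_mul]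
    show tor u * x s = x ((((powMonoidHom 2) (torE.symm (torE u)) : Fˣ) : F) * s) * tor u
    rw [MulEquiv.symm_apply_apply, tor_mul_x]
    rfl
  comm_T s t := by
    obtain ⟨u, rfl⟩ := torE.surjective s
    obtain ⟨v, rfl⟩ := torE.surjective t
    rw [← map_mul, ← map_mul, mul_comm]
  w_mem := by
    rintro _ ⟨u, rfl⟩
    refine ⟨u⁻¹, ?_⟩
    rw [wel_mul_tor, mul_inv_cancel_right]
  w_sq := by
    refine ⟨-1, ?_⟩
    apply ext4 <;> simp only [mul00, mul01, mul10, mul11, wel00, wel01, wel10, wel11, tor00, tor01,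
      tor10, tor11, inv_neg, inv_one, Units.val_neg, Units.val_one] <;> ring
  bruhat g := by
    have hdet := det_eq g
    by_cases hc : e10 g = 0
    · left
      rw [hc, mul_zero, sub_zero] at hdet
      have ha : e00 g ≠ 0 := left_ne_zero_of_mul_eq_one hdet
      refine ⟨e01 g * e00 g, tor (Units.mk0 _ ha), ⟨_, rfl⟩, ?_⟩
      have hi : (((Units.mk0 _ ha)⁻¹ : Fˣ) : F) = e11 g := by
        rw [Units.val_inv_eq_inv_val, Units.val_mk0]
        exact inv_eq_of_mul_eq_one_right hdet
      apply ext4 <;> simp only [mul00, mul01, mul10, mul11, x00, x01, x10, x11, tor00, tor01, tor10,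
        tor11, hi, Units.val_mk0, hc]
      · ring
      · linear_combination (-e01 g) * hdet
      · ring
      · ring
    · right
      refine ⟨e00 g * (e10 g)⁻¹, e11 g * (e10 g)⁻¹, tor (Units.mk0 _ (neg_ne_zero.2 hc)), ⟨_, rfl⟩, ?_⟩
      have hi : (((Units.mk0 _ (neg_ne_zero.2 hc))⁻¹ : Fˣ) : F) = -(e10 g)⁻¹ := by
        rw [Units.val_inv_eq_inv_val, Units.val_mk0, inv_neg]
      have hcc : e10 g * (e10 g)⁻¹ = 1 := mul_inv_cancel₀ hc
      apply ext4 <;> simp only [mul00, mul01, mul10, mul11, x00, x01, x10, x11, tor00, tor01, tor10,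
        tor11, wel00, wel01, wel10, wel11, hi, Units.val_mk0]
      · linear_combination (-e00 g) * hcc
      · linear_combination (-e01 g - e00 g * e11 g * (e10 g)⁻¹) * hcc - (e10 g)⁻¹ * hdet
      · ring
      · linear_combination (-e11 g) * hcc
  opp r s t ht h := by
    obtain ⟨u, rfl⟩ := ht
    have h1 : wel * x r = x s * tor u * wel := by rw [← h]; group
    have h2 := congrArg (fun g : SpecialLinearGroup (Fin 2) F => e11 g) h1
    simp only [mul00, mul01, mul10, mul11, x00, x01, x10, x11, tor00, tor01, tor10,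
        tor11, wel00, wel01, wel10, wel11] at h2
    linear_combination -h2

theorem data_X (s : F) : (data F).X s = x s := rfl
theorem data_w : (data F).w = wel := rfl
theorem data_T : (data F).T = (tor : Fˣ →* SpecialLinearGroup (Fin 2) F).range := rfl

/-- The elements of the torus. -/
noncomputable def tt (u : Fˣ) : (data F).T := torE u

theorem tt_coe (u : Fˣ) : ((tt u : (data F).T) : SpecialLinearGroup (Fin 2) F) = tor u := rfl

/-- The torus is isomorphic to the multiplicative group. -/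
noncomputable def ttE (F : Type v) [Field F] : Fˣ ≃* (data F).T := torE

theorem ttE_apply (u : Fˣ) : ttE F u = tt u := rfl

theorem exists_tt (t : (data F).T) : ∃ u : Fˣ, t = tt u := by
  obtain ⟨u, rfl⟩ := (ttE F).surjective t
  exact ⟨u, rfl⟩

theorem data_a (u : Fˣ) : (data F).a (tt u) = u ^ 2 := by
  show (powMonoidHom 2) (torE.symm (torE u)) = u ^ 2
  rw [MulEquiv.symm_apply_apply]
  rfl

theorem data_wT (u : Fˣ) : (data F).wT (tt u) = tt u⁻¹ := by
  apply Subtype.ext
  rw [Data.wT_coe, tt_coe, tt_coe, data_w, wel_mul_tor, mul_inv_cancel_right]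

/-- The anti-automorphism. -/
def anti (g : SpecialLinearGroup (Fin 2) F) : SpecialLinearGroup (Fin 2) F :=
  ⟨!![e11 g, e01 g; e10 g, e00 g], by
    rw [Matrix.det_fin_two_of]
    linear_combination det_eq g⟩

theorem anti00 (g : SpecialLinearGroup (Fin 2) F) : e00 (anti g) = e11 g := rfl
theorem anti01 (g : SpecialLinearGroup (Fin 2) F) : e01 (anti g) = e01 g := rfl
theorem anti10 (g : SpecialLinearGroup (Fin 2) F) : e10 (anti g) = e10 g := rfl
theorem anti11 (g : SpecialLinearGroup (Fin 2) F) : e11 (anti g) = e00 g := rfl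

theorem hasAnti : HasAnti (data F) := by
  refine ⟨anti, ?_, ?_, ?_, ?_⟩
  · intro g h
    apply ext4 <;> simp only [mul00, mul01, mul10, mul11, anti00, anti01, anti10, anti11] <;> ring
  · intro s
    rw [data_X]
    apply ext4 <;> simp only [anti00, anti01, anti10, anti11, x00, x01, x10, x11]
  · rintro _ ⟨u, rfl⟩
    rw [data_w]
    apply ext4 <;> simp only [mul00, mul01, mul10, mul11, anti00, anti01, anti10, anti11, tor00,
      tor01, tor10, tor11, wel00, wel01, wel10, wel11] <;> ring
  · intro t ht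
    obtain ⟨u, rfl⟩ := exists_tt t
    rw [data_a] at ht
    have hu : u⁻¹ = u := by
      rw [inv_eq_iff_mul_eq_one, ← ht, pow_two]
    rw [tt_coe]
    apply ext4 <;> simp only [anti00, anti01, anti10, anti11, tor00, tor01, tor10, tor11, hu]

theorem card_T [Fintype F] : Nat.card (data F).T = Fintype.card F - 1 := by
  classical
  rw [← Nat.card_congr (ttE F).toEquiv, Nat.card_eq_fintype_card, Fintype.card_units]

/-- The characters of the torus. -/
noncomputable def lamE (F : Type v) [Field F] : (Fˣ →* ℂˣ) ≃ ((data F).T →* ℂˣ) where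
  toFun f := f.comp (ttE F).symm.toMonoidHom
  invFun g := g.comp (ttE F).toMonoidHom
  left_inv f := by
    ext u
    simp
  right_inv g := by
    ext t
    simp

theorem lamE_tt (f : Fˣ →* ℂˣ) (u : Fˣ) : lamE F f (tt u) = f u := by
  show f ((ttE F).symm (ttE F u)) = f u
  rw [MulEquiv.symm_apply_apply]

theorem lamE_comp_wT (f : Fˣ →* ℂˣ) : (lamE F f).comp (data F).wT = lamE F f⁻¹ := by
  ext t
  obtain ⟨u, rfl⟩ := exists_tt t
  rw [MonoidHom.comp_apply, data_wT, lamE_tt, lamE_tt, map_inv, MonoidHom.inv_apply]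

theorem lamE_invariant_iff (f : Fˣ →* ℂˣ) :
    lamE F f = (lamE F f).comp (data F).wT ↔ f ^ 2 = 1 := by
  rw [lamE_comp_wT, (lamE F).injective.eq_iff, MonoidHom.ext_iff, MonoidHom.ext_iff]
  refine forall_congr' fun u => ?_
  rw [MonoidHom.inv_apply, MonoidHom.pow_apply, MonoidHom.one_apply, eq_inv_iff_mul_eq_one, pow_two]

theorem card_invariant : Nat.card {lam : (data F).T →* ℂˣ // lam = lam.comp (data F).wT} =
    Nat.card {f : Fˣ →* ℂˣ // f ^ 2 = 1} := by
  refine Nat.card_congr (Equiv.subtypeEquiv (lamE F).symm fun lam => ?_)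
  rw [← lamE_invariant_iff, Equiv.apply_symm_apply]

theorem card_ker_a_mul [Fintype F] :
    Nat.card (data F).a.ker = Nat.card {u : Fˣ // u ^ 2 = 1} := by
  refine Nat.card_congr ?_
  refine Equiv.symm (Equiv.subtypeEquiv (ttE F).toEquiv fun u => ?_)
  rw [MonoidHom.mem_ker]
  exact ⟨fun h => (data_a u).trans h, fun h => (data_a u).symm.trans h⟩

end Cfsg.Agent.H670.SL2
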