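import Cfsg.Agent.H670.SL2Data
import Cfsg.Agent.H670.RankOneSurj
import Mathlib

/-!
# Characters of `SL₂(q)`, `q` odd: types, degrees and numbers (helper670)
-/

set_option autoImplicit false
set_option linter.unusedSimpArgs false

open Cfsg
open scoped ComplexConjugate

namespace Cfsg.Agent.H670.SL2

open Matrix Cfsg.Agent.Characters.Core Cfsg.Agent.H670.RankOne

universe v

variable {F : Type v} [Field F]

/-! ### The abelianization along the root groups -/

/-- Lower unitriangular elements. -/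
def y (s : F) : SpecialLinearGroup (Fin 2) F := ⟨!![1, 0; s, 1], by simp [Matrix.det_fin_two_of]⟩

theorem y00 (s : F) : e00 (y s) = 1 := rfl
theorem y01 (s : F) : e01 (y s) = 0 := rfl
theorem y10 (s : F) : e10 (y s) = s := rfl
theorem y11 (s : F) : e11 (y s) = 1 := rfl

theorem wel_mul_x (s : F) : wel * x (-s) = y s * wel := by
  apply ext4 <;> simp only [mul00, mul01, mul10, mul11, wel00, wel01, wel10, wel11, x00, x01, x10,
    x11, y00, y01, y10, y11] <;> ring

theorem tor_mul_wel (u : Fˣ) : tor u * wel = x (u : F) * y (-((u⁻¹ : Fˣ) : F)) * x (u : F) := by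
  have h : (u : F) * ((u⁻¹ : Fˣ) : F) = 1 := by rw [← Units.val_mul, mul_inv_cancel, Units.val_one]
  apply ext4 <;> simp only [mul00, mul01, mul10, mul11, wel00, wel01, wel10, wel11, x00, x01, x10,
    x11, y00, y01, y10, y11, tor00, tor01, tor10, tor11]
  · linear_combination h
  · linear_combination (u : F) * h
  · ring
  · linear_combination h

/-- A homomorphism to a commutative group which is trivial on the root group is trivial. -/
theorem hom_eq_one {A : Type*} [CommGroup A] (f : SpecialLinearGroup (Fin 2) F →* A)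
    (h : ∀ s, f (x s) = 1) (g : SpecialLinearGroup (Fin 2) F) : f g = 1 := by
  have hy : ∀ s, f (y s) = 1 := by
    intro s
    have := congrArg f (wel_mul_x s)
    rw [map_mul, map_mul, h, mul_one] at this
    exact right_eq_mul.1 this
  have htw : ∀ u : Fˣ, f (tor u) * f wel = 1 := by
    intro u
    rw [← map_mul, tor_mul_wel, map_mul, map_mul, h, hy, one_mul, one_mul]
  have hw : f wel = 1 := by
    have := htw 1
    rwa [map_one, map_one, one_mul] at this
  have ht : ∀ u : Fˣ, f (tor u) = 1 := by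
    intro u
    have := htw u
    rwa [hw, mul_one] at this
  rcases (data F).bruhat g with ⟨s, t, ⟨u, rfl⟩, rfl⟩ | ⟨s, r, t, ⟨u, rfl⟩, rfl⟩
  · rw [map_mul, data_X, h, ht, one_mul]
  · rw [map_mul, map_mul, map_mul, data_X, data_X, data_w, h, h, hw, ht, one_mul, one_mul, one_mul]

section finite

variable [Fintype F]

/-- A linear character whose restriction to the root group contains the trivial character. -/
theorem eq_one_of_degree_one {χ : SpecialLinearGroup (Fin 2) F → ℂ}
    (hχ : IsIrrCharacter (SpecialLinearGroup (Fin 2) F) χ) (h1 : χ 1 = 1)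
    (h0 : (data F).cf χ 0 ≠ 0) : χ = 1 := by
  obtain ⟨f, rfl⟩ := Characters.Linear.exists_hom_of_isIrrCharacter hχ h1
  -- all the other Fourier coefficients vanish
  have hn : ∀ c : F, ∃ n : ℕ, (data F).cf (fun g => ((f g : ℂˣ) : ℂ)) c = n := fun c =>
    (data F).cf_nat (isIrr_isCharacter hχ) c
  choose n hn using hn
  have hs := (data F).apply_one (fun g => ((f g : ℂˣ) : ℂ))
  have h1' : ((f 1 : ℂˣ) : ℂ) = 1 := h1
  rw [h1', Finset.sum_congr rfl fun c _ => hn c, ← Nat.cast_sum] at hs
  have hs' : ∑ c : F, n c = 1 := by exact_mod_cast hs.symm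
  have h0' : n 0 ≠ 0 := by
    intro h
    apply h0
    rw [hn, h, Nat.cast_zero]
  have hz : ∀ c : F, c ≠ 0 → n c = 0 := by
    classical
    intro c hc
    have h5 := Finset.add_sum_erase Finset.univ n (Finset.mem_univ (0 : F))
    have h6 := Finset.single_le_sum (f := n) (fun _ _ => Nat.zero_le _)
      (Finset.mem_erase.2 ⟨hc, Finset.mem_univ c⟩)
    omega
  have hx : ∀ s : F, ((f (x s) : ℂˣ) : ℂ) = 1 := by
    intro s
    have h5 := (data F).apply_X (fun g => ((f g : ℂˣ) : ℂ)) s
    rw [Finset.sum_eq_single 0] at h5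
    · rw [mul_zero, AddChar.map_zero_eq_one, mul_one, hn] at h5
      have h6 : n 0 = 1 := by
        rw [Finset.sum_eq_single (0 : F) (fun c _ hc => hz c hc)
          (fun h => absurd (Finset.mem_univ _) h)] at hs'
        exact hs'
      rw [h6, Nat.cast_one] at h5
      exact h5
    · intro c _ hc
      rw [hn, hz c hc, Nat.cast_zero, zero_mul]
    · exact fun h => absurd (Finset.mem_univ _) h
  ext g
  have := hom_eq_one f (fun s => Units.ext (hx s)) g
  show ((f g : ℂˣ) : ℂ) = 1
  rw [this, Units.val_one]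

/-! ### The quadratic character -/

variable [DecidableEq F]

/-- The complex quadratic character. -/
noncomputable def sg (F : Type v) [Field F] [Fintype F] [DecidableEq F] : MulChar F ℂ :=
  (quadraticChar F).ringHomComp (Int.castRingHom ℂ)

theorem sg_apply (c : F) : sg F c = ((quadraticChar F c : ℤ) : ℂ) := rfl

theorem sg_zero : sg F 0 = 0 := by rw [sg_apply, quadraticChar_zero, Int.cast_zero]

theorem sg_of_square {c : F} (hc : c ≠ 0) (h : IsSquare c) : sg F c = 1 := by
  rw [sg_apply, (quadraticChar_one_iff_isSquare hc).2 h, Int.cast_one]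

theorem sg_of_not_square {c : F} (h : ¬ IsSquare c) : sg F c = -1 := by
  rw [sg_apply, quadraticChar_neg_one_iff_not_isSquare.2 h, Int.cast_neg, Int.cast_one]

theorem sum_sg (hF : ringChar F ≠ 2) : ∑ c : F, sg F c = 0 := by
  have := quadraticChar_sum_zero hF
  simp only [sg_apply]
  rw [← Int.cast_sum, this, Int.cast_zero]

theorem sg_isQuadratic : (sg F).IsQuadratic := by
  intro a
  rcases quadraticChar_isQuadratic F a with h | h | h <;> rw [sg_apply, h] <;> simp

theorem sg_ne_one (hF : ringChar F ≠ 2) : sg F ≠ 1 := by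
  intro h
  obtain ⟨a, ha⟩ := quadraticChar_exists_neg_one' hF
  have h1 : sg F (a : F) = 1 := by rw [h, MulChar.one_apply_coe]
  rw [sg_apply, ha] at h1
  norm_num at h1

/-- The quadratic Gauss sum. -/
noncomputable def gs (F : Type v) [Field F] [Fintype F] [DecidableEq F] : ℂ :=
  gaussSum (sg F) (psi F)

theorem gs_eq : gs F = ∑ c : F, sg F c * psi F c := rfl

theorem gs_sq (hF : ringChar F ≠ 2) :
    gs F ^ 2 = (-1 : ℂ) ^ ((Fintype.card F - 1) / 2) * (Fintype.card F : ℂ) := by
  rw [gs, gaussSum_sq (sg_ne_one hF) sg_isQuadratic (psi_prim F)]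
  congr 1
  rw [sg_apply]
  have hodd : Fintype.card F % 2 = 1 := FiniteField.odd_card_of_char_ne_two hF
  have h1 : (Fintype.card F - 1) / 2 = Fintype.card F / 2 := by omega
  rw [h1]
  have h2 := quadraticChar_eq_pow_of_char_ne_two' hF (-1 : F)
  have h3 : (-1 : F) ≠ 1 := Ring.neg_one_ne_one_of_char_ne_two hF
  rcases Nat.even_or_odd (Fintype.card F / 2) with h | h
  · rw [h.neg_one_pow] at h2 ⊢
    rcases quadraticChar_dichotomy (F := F) (neg_ne_zero.2 (one_ne_zero (α := F))) with h4 | h4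
    · rw [h4, Int.cast_one]
    · rw [h4, Int.cast_neg, Int.cast_one] at h2
      exact absurd h2 h3
  · rw [h.neg_one_pow] at h2 ⊢
    rcases quadraticChar_dichotomy (F := F) (neg_ne_zero.2 (one_ne_zero (α := F))) with h4 | h4
    · rw [h4, Int.cast_one] at h2
      exact absurd h2.symm h3
    · rw [h4, Int.cast_neg, Int.cast_one]

/-! ### Types -/

omit [DecidableEq F] in
theorem n_square (χ : IrrCharacter (SpecialLinearGroup (Fin 2) F)) {c : F} (hc : c ≠ 0)
    (h : IsSquare c) : (data F).n χ c = (data F).n χ 1 := by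
  obtain ⟨v, rfl⟩ := h
  have hv : v ≠ 0 := left_ne_zero_of_mul hc
  have h1 := (data F).n_mul χ (tt (Units.mk0 v hv)) 1
  rw [data_a, mul_one, Units.val_pow_eq_pow_val, Units.val_mk0, pow_two] at h1
  exact h1

theorem n_not_square (χ : IrrCharacter (SpecialLinearGroup (Fin 2) F)) {c d : F}
    (hc : ¬ IsSquare c) (hd : ¬ IsSquare d) : (data F).n χ c = (data F).n χ d := by
  have hc0 : c ≠ 0 := by rintro rfl; exact hc (IsSquare.zero)
  have hd0 : d ≠ 0 := by rintro rfl; exact hd (IsSquare.zero)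
  have h1 : IsSquare (c * d⁻¹) := by
    rw [← quadraticChar_one_iff_isSquare (mul_ne_zero hc0 (inv_ne_zero hd0)), map_mul]
    have hd' : ¬ IsSquare d⁻¹ := fun h => hd (by
      rw [← inv_inv d]; exact h.inv)
    rw [quadraticChar_neg_one_iff_not_isSquare.2 hc, quadraticChar_neg_one_iff_not_isSquare.2 hd']
    norm_num
  obtain ⟨v, hv⟩ := h1
  have hv0 : v ≠ 0 := by
    rintro rfl
    rw [mul_zero] at hv
    exact mul_ne_zero hc0 (inv_ne_zero hd0) hv
  have h2 := (data F).n_mul χ (tt (Units.mk0 v hv0)) d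
  rw [data_a, Units.val_pow_eq_pow_val, Units.val_mk0, pow_two, ← hv,
    inv_mul_cancel_right₀ hd0] at h2
  exact h2

variable {nu : F} (hnu : ¬ IsSquare nu)

include hnu in
/-- The values on the root group. -/
theorem apply_x (χ : IrrCharacter (SpecialLinearGroup (Fin 2) F)) (s : F) :
    (χ : SpecialLinearGroup (Fin 2) F → ℂ) (x s) =
      (data F).n χ 0 - ((data F).n χ 1 + (data F).n χ nu) / 2 +
        ((data F).n χ 1 + (data F).n χ nu) / 2 * (if s = 0 then (Fintype.card F : ℂ) else 0) +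
        ((data F).n χ 1 - (data F).n χ nu) / 2 * ∑ c : F, sg F c * psi F (s * c) := by
  have h1 : ∀ c : F, (data F).cf (χ : SpecialLinearGroup (Fin 2) F → ℂ) c * psi F (s * c) =
      (if c = 0 then ((data F).n χ 0 - ((data F).n χ 1 + (data F).n χ nu) / 2 : ℂ) else 0) +
      ((data F).n χ 1 + (data F).n χ nu) / 2 * psi F (c * s) +
      ((data F).n χ 1 - (data F).n χ nu) / 2 * (sg F c * psi F (s * c)) := by
    intro c
    rw [Data.cf_eq_n]
    by_cases hc : c = 0
    · subst hc
      rw [if_pos rfl, mul_zero, zero_mul, AddChar.map_zero_eq_one, sg_zero]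
      ring
    · rw [if_neg hc, mul_comm c s]
      by_cases hsq : IsSquare c
      · rw [n_square χ hc hsq, sg_of_square hc hsq]
        ring
      · rw [n_not_square χ hsq hnu, sg_of_not_square hsq]
        ring
  rw [← data_X, (data F).apply_X (χ : SpecialLinearGroup (Fin 2) F → ℂ), Finset.sum_congr rfl fun c _ => h1 c, Finset.sum_add_distrib,
    Finset.sum_add_distrib, Finset.sum_ite_eq' Finset.univ (0 : F), if_pos (Finset.mem_univ _),
    ← Finset.mul_sum, ← Finset.mul_sum, sum_psi]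

omit [DecidableEq F] in
include hnu in
theorem char_ne_two : ringChar F ≠ 2 := by
  intro h
  exact hnu (FiniteField.isSquare_of_char_two h nu)

include hnu in
theorem degree_eq (χ : IrrCharacter (SpecialLinearGroup (Fin 2) F)) :
    (χ : SpecialLinearGroup (Fin 2) F → ℂ) 1 =
      (((data F).n χ 0 + (Fintype.card F - 1) / 2 * ((data F).n χ 1 + (data F).n χ nu) : ℕ) : ℂ) := by
  have h := apply_x hnu χ 0
  have h0 : x (0 : F) = 1 := (data F).X_zero
  rw [h0] at h
  rw [h, if_pos rfl]
  simp only [zero_mul, AddChar.map_zero_eq_one, mul_one]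
  rw [sum_sg (char_ne_two hnu)]
  have hodd : Fintype.card F % 2 = 1 := FiniteField.odd_card_of_char_ne_two (char_ne_two hnu)
  obtain ⟨m, hm⟩ : ∃ m, Fintype.card F = 2 * m + 1 := ⟨Fintype.card F / 2, by omega⟩
  have h2 : (Fintype.card F - 1) / 2 = m := by omega
  rw [h2, hm]
  push_cast
  ring

/-- The possible types. -/
def tys : Finset (ℕ × ℕ × ℕ) :=
  {(2, 1, 1), (1, 0, 0), (1, 1, 0), (1, 0, 1), (1, 1, 1), (0, 1, 1), (0, 1, 0), (0, 0, 1)}

/-- The type of an irreducible character. -/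
noncomputable def ty (nu : F) (χ : IrrCharacter (SpecialLinearGroup (Fin 2) F)) : ℕ × ℕ × ℕ :=
  ((data F).n χ 0, (data F).n χ 1, (data F).n χ nu)

include hnu in
theorem ty_mem (χ : IrrCharacter (SpecialLinearGroup (Fin 2) F)) : ty nu χ ∈ tys := by
  have hnu0 : nu ≠ 0 := by rintro rfl; exact hnu IsSquare.zero
  simp only [ty, tys, Finset.mem_insert, Finset.mem_singleton, Prod.mk.injEq]
  have hb1 := (data F).n_le_one hasAnti χ (one_ne_zero (α := F))
  have hb2 := (data F).n_le_one hasAnti χ hnu0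
  rcases (data F).n_zero_cases χ with h | h | h
  · obtain ⟨c, hc, hn⟩ := (data F).n_ne_zero_of_cusp χ h
    by_cases hsq : IsSquare c
    · rw [n_square χ hc hsq] at hn
      rcases hb1 with h1 | h1
      · exact absurd h1 hn
      · rcases hb2 with h2 | h2 <;> simp [h, h1, h2]
    · rw [n_not_square χ hsq hnu] at hn
      rcases hb2 with h2 | h2
      · exact absurd h2 hn
      · rcases hb1 with h1 | h1 <;> simp [h, h1, h2]
  · rcases hb1 with h1 | h1 <;> rcases hb2 with h2 | h2 <;> simp [h, h1, h2]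
  · rw [(data F).n_of_two χ h one_ne_zero, (data F).n_of_two χ h hnu0]
    simp [h]

omit [DecidableEq F] in
theorem card_SL2 : Nat.card (SpecialLinearGroup (Fin 2) F) =
    (Fintype.card F + 1) * (Fintype.card F * (Fintype.card F - 1)) := by
  rw [(data F).card_G, (data F).card_B, card_T]

omit [DecidableEq F] in
include hnu in
theorem card_sq_one : Nat.card {u : Fˣ // u ^ 2 = 1} = 2 := by
  rw [Nat.card_eq_two_iff]
  refine ⟨⟨1, one_pow 2⟩, ⟨-1, by rw [neg_sq, one_pow]⟩, ?_, ?_⟩
  · intro h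
    have h1 := congrArg (fun u : {u : Fˣ // u ^ 2 = 1} => ((u : Fˣ) : F)) h
    simp only [Units.val_one, Units.val_neg] at h1
    exact Ring.neg_one_ne_one_of_char_ne_two (char_ne_two hnu) h1.symm
  · ext ⟨u, hu⟩
    simp only [Set.mem_insert_iff, Set.mem_singleton_iff, Set.mem_univ, iff_true, Subtype.mk.injEq]
    have h1 : (u : F) ^ 2 = 1 := by rw [← Units.val_pow_eq_pow_val, hu, Units.val_one]
    rcases mul_self_eq_one_iff.1 ((pow_two (u : F)).symm.trans h1) with h2 | h2
    · left; exact Units.ext h2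
    · right; exact Units.ext h2

omit [DecidableEq F] in
theorem card_hom_sq_one : Nat.card {f : Fˣ →* ℂˣ // f ^ 2 = 1} =
    Nat.card {u : Fˣ // u ^ 2 = 1} := by
  obtain ⟨e⟩ := CommGroup.monoidHom_mulEquiv_of_hasEnoughRootsOfUnity Fˣ ℂ
  refine Nat.card_congr (Equiv.subtypeEquiv e.toEquiv fun f => ?_)
  show f ^ 2 = 1 ↔ (e f) ^ 2 = 1
  rw [← map_pow, map_eq_one_iff e e.injective]

omit [DecidableEq F] in
theorem type_triv_eq_one (nu : F) (χ : IrrCharacter (SpecialLinearGroup (Fin 2) F))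
    (h : ty nu χ = (1, 0, 0)) (h1 : (χ : SpecialLinearGroup (Fin 2) F → ℂ) 1 = 1) :
    (χ : SpecialLinearGroup (Fin 2) F → ℂ) = 1 := by
  apply eq_one_of_degree_one χ.2 h1
  have h2 : (data F).n χ 0 = 1 := congrArg Prod.fst h
  rw [Data.cf_eq_n, h2, Nat.cast_one]
  exact one_ne_zero

/-- The trivial character. -/
def triv : IrrCharacter (SpecialLinearGroup (Fin 2) F) := ⟨1, isIrr_one⟩

omit [DecidableEq F] in
theorem ty_triv (hnu0 : nu ≠ 0) : ty nu (triv : IrrCharacter (SpecialLinearGroup (Fin 2) F)) =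
    (1, 0, 0) := by
  classical
  have h0 : (data F).n triv 0 = 1 := by
    rw [Data.n_eq_iff]
    show (data F).cf 1 0 = _
    rw [Data.cf_one, Nat.cast_one]
  have h1 : ∀ c : F, c ≠ 0 → (data F).n triv c = 0 := by
    intro c hc
    rw [Data.n_eq_iff]
    show (data F).cf 1 c = _
    rw [Data.cf_one_ne _ hc, Nat.cast_zero]
  simp only [ty, h0, h1 1 one_ne_zero, h1 nu hnu0]

include hnu in
theorem sum_n_eq (χ : IrrCharacter (SpecialLinearGroup (Fin 2) F)) :
    ∑ c : F, (data F).n χ c =
      (data F).n χ 0 + (Fintype.card F - 1) / 2 * ((data F).n χ 1 + (data F).n χ nu) := by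
  have h := (degree_eq hnu χ).symm.trans ((data F).degree_eq χ)
  exact (Nat.cast_inj.1 h).symm

/-- The number of characters of a given type. -/
noncomputable def N (nu : F) [Fintype (IrrCharacter (SpecialLinearGroup (Fin 2) F))]
    (p : ℕ × ℕ × ℕ) : ℕ :=
  (Finset.univ.filter fun χ : IrrCharacter (SpecialLinearGroup (Fin 2) F) => ty nu χ = p).card

include hnu in
theorem sum_tys [Fintype (IrrCharacter (SpecialLinearGroup (Fin 2) F))] (f : ℕ × ℕ × ℕ → ℕ) :
    ∑ χ : IrrCharacter (SpecialLinearGroup (Fin 2) F), f (ty nu χ) =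
      N nu (2, 1, 1) * f (2, 1, 1) + N nu (1, 0, 0) * f (1, 0, 0) + N nu (1, 1, 0) * f (1, 1, 0) +
      N nu (1, 0, 1) * f (1, 0, 1) + N nu (1, 1, 1) * f (1, 1, 1) + N nu (0, 1, 1) * f (0, 1, 1) +
      N nu (0, 1, 0) * f (0, 1, 0) + N nu (0, 0, 1) * f (0, 0, 1) := by
  rw [sum_types (ty nu) tys (ty_mem hnu) f, tys]
  rw [Finset.sum_insert (by decide), Finset.sum_insert (by decide), Finset.sum_insert (by decide),
    Finset.sum_insert (by decide), Finset.sum_insert (by decide), Finset.sum_insert (by decide),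
    Finset.sum_insert (by decide), Finset.sum_singleton]
  simp only [N]
  ring

theorem solve (h A t00 t10 t01 t11 c11 c10 c01 : ℕ) (e0 : t00 = 1) (e4 : A * 2 + 2 = 2 * h)
    (k1 : 2 * (2 * h) = A * (2 * 2) + t00 + t10 + t01 + t11)
    (k2 : 2 * h = A * 2 + t10 + t11) (k2' : 2 * h = A * 2 + t01 + t11)
    (k3 : 2 * h + 2 = A + t10 + t11 + c11 + c10) (k3' : 2 * h + 2 = A + t01 + t11 + c11 + c01)
    (k5 : (2 * h + 1 + 1) * ((2 * h + 1) * (2 * h + 1 - 1)) =
      A * ((2 + h * (1 + 1)) * (2 + h * (1 + 1))) + t00 + t10 * ((1 + h) * (1 + h)) +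
      t01 * ((1 + h) * (1 + h)) + t11 * ((1 + h * (1 + 1)) * (1 + h * (1 + 1))) +
      c11 * (h * (1 + 1) * (h * (1 + 1))) + c10 * (h * h) + c01 * (h * h)) :
    A + 1 = h ∧ t10 = 1 ∧ t01 = 1 ∧ t11 = 1 ∧ c11 = h ∧ c10 = 1 ∧ c01 = 1 := by
  obtain ⟨m, rfl⟩ : ∃ m, h = m + 1 := ⟨h - 1, by omega⟩
  have f0 : A = m := by omega
  have f1 : t11 = 1 := by omega
  have f2 : t10 = 1 := by omega
  have f3 : t01 = 1 := by omega
  have f4 : c01 = c10 := by omega
  have f5 : c11 + c10 = m + 2 := by omega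
  subst f0 f1 f2 f3 f4 e0
  have e1 : 2 * (A + 1) + 1 - 1 = 2 * (A + 1) := by omega
  rw [e1] at k5
  zify at k5 f5
  have h7 : (c01 : ℤ) = A + 2 - c11 := by linarith
  rw [h7] at k5
  have h8 : ((c11 : ℤ) - (A + 1)) * ((A + 1) * (A + 1)) = 0 := by linarith
  have f8 : c11 = A + 1 := by
    rcases mul_eq_zero.1 h8 with h9 | h9
    · have : (c11 : ℤ) = A + 1 := by linarith
      exact_mod_cast this
    · exfalso
      have : (0 : ℤ) < (A + 1) * (A + 1) := by positivity
      omega
  refine ⟨rfl, rfl, rfl, rfl, f8, ?_, ?_⟩ <;> omega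

include hnu in
/-- The number of irreducible characters of each type. -/
theorem counts [Fintype (IrrCharacter (SpecialLinearGroup (Fin 2) F))] {h : ℕ}
    (hq : Fintype.card F = 2 * h + 1) :
    N nu (2, 1, 1) + 1 = h ∧ N nu (1, 0, 0) = 1 ∧ N nu (1, 1, 0) = 1 ∧ N nu (1, 0, 1) = 1 ∧
      N nu (1, 1, 1) = 1 ∧ N nu (0, 1, 1) = h ∧ N nu (0, 1, 0) = 1 ∧ N nu (0, 0, 1) = 1 := by
  have : Fintype (SpecialLinearGroup (Fin 2) F) := Fintype.ofFinite _
  have hnu0 : nu ≠ 0 := by rintro rfl; exact hnu IsSquare.zero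
  have hh : (Fintype.card F - 1) / 2 = h := by omega
  have hT : Nat.card (data F).T = 2 * h := by rw [card_T, hq]; omega
  have hker : Nat.card (data F).a.ker = 2 := by rw [card_ker_a_mul, card_sq_one hnu]
  have e1 := (data F).sum_n_zero_sq
  have e2 := (data F).sum_n_zero_mul_n (one_ne_zero (α := F))
  have e2' := (data F).sum_n_zero_mul_n hnu0
  have e3 := (data F).sum_n_sq (one_ne_zero (α := F))
  have e3' := (data F).sum_n_sq hnu0
  have e5 := (data F).sum_degree_sq
  rw [hT] at e1 e2 e2' e3 e3'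
  rw [hker] at e3 e3'
  simp only [sum_n_eq hnu, hh] at e5
  have k1 := sum_tys hnu (fun p => p.1 * p.1)
  have k2 := sum_tys hnu (fun p => p.1 * p.2.1)
  have k2' := sum_tys hnu (fun p => p.1 * p.2.2)
  have k3 := sum_tys hnu (fun p => p.2.1 * p.2.1)
  have k3' := sum_tys hnu (fun p => p.2.2 * p.2.2)
  have k4 : (∑ χ : IrrCharacter (SpecialLinearGroup (Fin 2) F),
      if (data F).n χ 0 = 2 then 1 else 0) = N nu (2, 1, 1) :=
    (sum_tys hnu (fun p => if p.1 = 2 then 1 else 0)).trans (by norm_num)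
  have k5 := sum_tys hnu (fun p => (p.1 + h * (p.2.1 + p.2.2)) * (p.1 + h * (p.2.1 + p.2.2)))
  simp only [ty] at k1 k2 k2' k3 k3' k5
  rw [e1] at k1
  rw [e2] at k2
  rw [e2'] at k2'
  rw [e3] at k3
  rw [e3'] at k3'
  rw [e5, card_SL2, hq] at k5
  have e4 : N nu (2, 1, 1) * 2 + 2 = 2 * h := by
    have : DecidableEq ((data F).T →* ℂˣ) := Classical.decEq _
    have := finite_hom (data F).comm_T
    have : Fintype ((data F).T →* ℂˣ) := Fintype.ofFinite _
    have h1 := (data F).card_two_mul_two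
    have h2 : (Finset.univ.filter fun lam : (data F).T →* ℂˣ => lam = lam.comp (data F).wT).card +
        (Finset.univ.filter fun lam : (data F).T →* ℂˣ => lam ≠ lam.comp (data F).wT).card =
        Nat.card (data F).T := by
      rw [Finset.card_filter_add_card_filter_not, Finset.card_univ, ← Nat.card_eq_fintype_card,
        card_hom (data F).comm_T]
    have h3 : (Finset.univ.filter fun lam : (data F).T →* ℂˣ => lam = lam.comp (data F).wT).card =
        2 := by
      rw [← Fintype.card_subtype, ← Nat.card_eq_fintype_card, card_invariant, card_hom_sq_one,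
        card_sq_one hnu]
    rw [h1, h3, hT, Finset.card_filter, k4] at h2
    omega
  -- the trivial character
  have e0 : N nu (1, 0, 0) = 1 := by
    rw [N, Finset.card_eq_one]
    refine ⟨triv, ?_⟩
    ext χ
    rw [Finset.mem_filter, Finset.mem_singleton]
    constructor
    · rintro ⟨_, hχ⟩
      apply Subtype.ext
      apply type_triv_eq_one nu χ hχ
      simp only [ty, Prod.mk.injEq] at hχ
      rw [degree_eq hnu, hχ.1, hχ.2.1, hχ.2.2]
      norm_num
    · rintro rfl
      exact ⟨Finset.mem_univ _, ty_triv hnu0⟩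
  simp only [mul_one, mul_zero, add_zero, zero_add] at k1 k2 k2' k3 k3' k5
  obtain ⟨g1, g2, g3, g4, g5, g6, g7⟩ := solve h _ _ _ _ _ _ _ _ e0 e4 k1 k2 k2' k3 k3' k5
  exact ⟨g1, e0, g2, g3, g4, g5, g6, g7⟩

include hnu in
theorem degree_eq_ty (χ : IrrCharacter (SpecialLinearGroup (Fin 2) F)) {h : ℕ}
    (hq : Fintype.card F = 2 * h + 1) :
    (χ : SpecialLinearGroup (Fin 2) F → ℂ) 1 =
      (((ty nu χ).1 + h * ((ty nu χ).2.1 + (ty nu χ).2.2) : ℕ) : ℂ) := by
  have hh : (Fintype.card F - 1) / 2 = h := by omega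
  rw [degree_eq hnu, hh, ty]

include hnu in
/-- The number of irreducible characters of a given degree. -/
theorem card_degree {h : ℕ} (hq : Fintype.card F = 2 * h + 1) (z : ℂ) (d : ℕ) (hz : z = d) :
    Nat.card {χ : IrrCharacter (SpecialLinearGroup (Fin 2) F) //
      (χ : SpecialLinearGroup (Fin 2) F → ℂ) 1 = z} =
      (h - 1) * (if 2 * h + 2 = d then 1 else 0) + (if 1 = d then 1 else 0) +
      2 * (if h + 1 = d then 1 else 0) + (if 2 * h + 1 = d then 1 else 0) +
      h * (if 2 * h = d then 1 else 0) + 2 * (if h = d then 1 else 0) := by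
  classical
  have := finite_irr (G := SpecialLinearGroup (Fin 2) F)
  have : Fintype (IrrCharacter (SpecialLinearGroup (Fin 2) F)) := Fintype.ofFinite _
  rw [Nat.card_eq_fintype_card, Fintype.card_subtype, Finset.card_filter]
  have h1 : ∀ χ : IrrCharacter (SpecialLinearGroup (Fin 2) F),
      (if (χ : SpecialLinearGroup (Fin 2) F → ℂ) 1 = z then 1 else 0) =
      (fun p : ℕ × ℕ × ℕ => if p.1 + h * (p.2.1 + p.2.2) = d then 1 else 0) (ty nu χ) := by
    intro χ
    rw [degree_eq_ty hnu χ hq, hz]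
    simp only [Nat.cast_inj]
  rw [Finset.sum_congr rfl fun χ _ => h1 χ]
  refine (sum_tys hnu (fun p : ℕ × ℕ × ℕ => if p.1 + h * (p.2.1 + p.2.2) = d then 1 else 0)).trans ?_
  obtain ⟨c1, c2, c3, c4, c5, c6, c7, c8⟩ := counts hnu hq
  have c1' : N nu (2, 1, 1) = h - 1 := by omega
  rw [c1', c2, c3, c4, c5, c6, c7, c8]
  have d1 : 2 + h * (1 + 1) = 2 * h + 2 := by ring
  have d2 : 1 + h * (0 + 0) = 1 := by ring
  have d3 : 1 + h * (1 + 0) = h + 1 := by ring
  have d4 : 1 + h * (0 + 1) = h + 1 := by ring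
  have d5 : 1 + h * (1 + 1) = 2 * h + 1 := by ring
  have d6 : 0 + h * (1 + 1) = 2 * h := by ring
  have d7 : 0 + h * (1 + 0) = h := by ring
  have d8 : 0 + h * (0 + 1) = h := by ring
  simp only [d1, d2, d3, d4, d5, d6, d7, d8]
  ring

omit [DecidableEq F] in
theorem exists_not_square (hodd : Odd (Fintype.card F)) : ∃ nu : F, ¬ IsSquare nu := by
  apply FiniteField.exists_nonsquare
  intro h
  have h5 := (FiniteField.even_card_iff_char_two (F := F)).1 h
  obtain ⟨m, hm⟩ := hodd
  omega

end finite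

end Cfsg.Agent.H670.SL2
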