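import Cfsg.Agent.H670.RankOneSurj
import Mathlib

/-!
# Steinberg characters of rank one groups (helper670)
-/

set_option autoImplicit false

open Cfsg
open scoped ComplexConjugate

namespace Cfsg.Agent.H670.RankOne.Data

open Cfsg.Agent.Characters.Core

universe u v

variable {G : Type u} [Group G] {F : Type v} [Field F] [Fintype F] (D : Data G F) [Fintype G]

omit [Fintype G] in
theorem jac_add (χ χ' : G → ℂ) (t : D.T) : D.jac (χ + χ') t = D.jac χ t + D.jac χ' t := by
  simp only [jac_def, Pi.add_apply, Finset.sum_add_distrib, mul_add]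

theorem jac_ind {lam : D.T →* ℂˣ} (h : lam = lam.comp D.wT) (t : D.T) :
    D.jac (D.ind lam) t = 2 * (lam t : ℂ) := by
  classical
  have := finite_hom D.comm_T
  have : Fintype (D.T →* ℂˣ) := Fintype.ofFinite _
  rw [D.jac_eq (isCharacter_isClassFunction (D.isCharacter_ind lam)), Finset.sum_eq_single lam]
  · rw [D.inner_ind, if_pos rfl, if_pos h]
    norm_num
  · intro mu _ hmu
    rw [D.inner_ind, if_neg (fun h => hmu h.symm), if_neg, add_zero, zero_mul]
    intro h'
    apply hmu
    rw [h, h', D.comp_wT_comp_wT]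
  · exact fun h => absurd (Finset.mem_univ _) h

/-- The degree of a cuspidal character is less than the size of the field. -/
theorem degree_lt_of_cusp (hA : HasAnti D) (χ : IrrCharacter G) (h : D.n χ 0 = 0) :
    ∑ c : F, D.n χ c < Fintype.card F := by
  classical
  rw [← Finset.add_sum_erase Finset.univ _ (Finset.mem_univ (0 : F)), h, zero_add]
  have h1 : ∑ c ∈ Finset.univ.erase (0 : F), D.n χ c ≤ ∑ _c ∈ Finset.univ.erase (0 : F), 1 := by
    apply Finset.sum_le_sum
    intro c hc
    rcases D.n_le_one hA χ (Finset.ne_of_mem_erase hc) with h2 | h2 <;> omega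
  rw [Finset.sum_const, Finset.card_erase_of_mem (Finset.mem_univ _), Finset.card_univ, smul_eq_mul,
    mul_one] at h1
  have : 0 < Fintype.card F := Fintype.card_pos
  omega

/-- The characters whose degree is the size of the field. -/
theorem steinberg_cases (hA : HasAnti D) {χ : G → ℂ} (hχ : IsIrrCharacter G χ)
    (hdeg : χ 1 = Fintype.card F) :
    ∃ (lam : D.T →* ℂˣ) (χ' : G → ℂ), lam = lam.comp D.wT ∧ (∀ t, D.jac χ t = (lam t : ℂ)) ∧
      (∀ t, D.jac χ' t = (lam t : ℂ)) ∧ IsIrrCharacter G χ' ∧ χ' 1 = 1 ∧ D.cf χ' 0 = 1 ∧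
      D.ind lam = χ + χ' := by
  rcases D.trichotomy hχ with h | ⟨_, lam, hlam, hjac, χ', hχ', _, hcf, hsum⟩ | ⟨_, lam, _, hl⟩
  · exfalso
    have h1 := D.degree_lt_of_cusp hA ⟨χ, hχ⟩ (by rw [n_eq_iff, h, Nat.cast_zero])
    have h2 := D.degree_eq ⟨χ, hχ⟩
    have h3 : χ 1 = ((∑ c : F, D.n ⟨χ, hχ⟩ c : ℕ) : ℂ) := h2
    rw [hdeg, Nat.cast_inj] at h3
    omega
  · refine ⟨lam, χ', hlam, hjac, ?_, hχ', ?_, hcf, hsum⟩
    · intro t
      have h1 := D.jac_ind hlam t
      rw [hsum, jac_add, hjac] at h1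
      linear_combination h1
    · have h1 := congrFun hsum 1
      rw [D.ind_one, Pi.add_apply, hdeg] at h1
      linear_combination -h1
  · exfalso
    rw [hl, D.ind_one] at hdeg
    have : (1 : ℂ) = 0 := by linear_combination hdeg
    exact one_ne_zero this

end Cfsg.Agent.H670.RankOne.Data
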