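import Cfsg.Agent.H670.SL2Odd
import Cfsg.Agent.H670.GL2Data
import Cfsg.Agent.H670.RankOneSt
import Mathlib

/-!
# Elements of `SL₂(q)`, `GL₂(q)` without eigenvectors; Steinberg characters (helper670)
-/

set_option autoImplicit false
set_option linter.unusedSimpArgs false

open Cfsg
open scoped ComplexConjugate

namespace Cfsg.Agent.H670.SL2

open Matrix Cfsg.Agent.Characters.Core Cfsg.Agent.H670.RankOne

universe v

variable {F : Type v} [Field F]

theorem mem_B_iff (g : SpecialLinearGroup (Fin 2) F) : g ∈ (data F).B ↔ e10 g = 0 := by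
  constructor
  · rintro ⟨s, _, ⟨u, rfl⟩, rfl⟩
    rw [data_X, mul10, x10, x11, tor10]
    ring
  · intro h
    rcases (data F).bruhat g with ⟨s, t, ht, rfl⟩ | ⟨s, r, t, ⟨u, rfl⟩, rfl⟩
    · exact ⟨s, t, ht, rfl⟩
    · exfalso
      rw [data_X, data_X, data_w] at h
      simp only [mul00, mul01, mul10, mul11, x00, x01, x10, x11, tor00, tor01, tor10, tor11,
        wel00, wel01, wel10, wel11] at h
      apply u.ne_zero
      linear_combination -h

/-- An element without eigenvectors has no conjugate in the Borel subgroup. -/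
theorem ell_notMem {g : SpecialLinearGroup (Fin 2) F}
    (hg : ∀ (c : F) (v : Fin 2 → F), v ≠ 0 → (g : Matrix (Fin 2) (Fin 2) F).mulVec v ≠ c • v)
    (y : SpecialLinearGroup (Fin 2) F) : y⁻¹ * g * y ∉ (data F).B := by
  intro h
  rw [mem_B_iff] at h
  set b := y⁻¹ * g * y with hb
  have h1 : g * y = y * b := by rw [hb]; group
  refine hg (e00 b) ![e00 y, e10 y] ?_ ?_
  · intro h2
    have h3 : e00 y = 0 := congrFun h2 0
    have h4 : e10 y = 0 := congrFun h2 1
    have h5 := det_eq y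
    rw [h3, h4] at h5
    simp at h5
  · have h3 := congrArg e00 h1
    have h4 := congrArg e10 h1
    rw [mul00, mul00, h, mul_zero, add_zero] at h3
    rw [mul10, mul10, h, mul_zero, add_zero] at h4
    funext i
    fin_cases i
    · show (g : Matrix (Fin 2) (Fin 2) F).mulVec ![e00 y, e10 y] 0 = e00 b * e00 y
      rw [Matrix.mulVec, dotProduct, Fin.sum_univ_two]
      rw [mul_comm (e00 b), ← h3]
      rfl
    · show (g : Matrix (Fin 2) (Fin 2) F).mulVec ![e00 y, e10 y] 1 = e00 b * e10 y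
      rw [Matrix.mulVec, dotProduct, Fin.sum_univ_two]
      rw [mul_comm (e00 b), ← h4]
      rfl

theorem tor_of_diag {g : SpecialLinearGroup (Fin 2) F} (h01 : e01 g = 0) (h10 : e10 g = 0) :
    ∃ u : Fˣ, g = tor u ∧ (u : F) = e00 g ∧ ((u⁻¹ : Fˣ) : F) = e11 g := by
  have hdet := det_eq g
  rw [h10, mul_zero, sub_zero] at hdet
  have ha : e00 g ≠ 0 := left_ne_zero_of_mul_eq_one hdet
  have hi : (((Units.mk0 _ ha)⁻¹ : Fˣ) : F) = e11 g := by
    rw [Units.val_inv_eq_inv_val, Units.val_mk0]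
    exact inv_eq_of_mul_eq_one_right hdet
  refine ⟨Units.mk0 _ ha, ?_, rfl, hi⟩
  apply ext4
  · rfl
  · exact h01
  · exact h10
  · exact hi.symm

section finite

variable [Fintype F] [Fintype (SpecialLinearGroup (Fin 2) F)]

/-- The Steinberg character of `SL₂(q)`. -/
theorem eq_ind_sub_one {χ : SpecialLinearGroup (Fin 2) F → ℂ}
    (hχ : IsIrrCharacter (SpecialLinearGroup (Fin 2) F) χ) (hdeg : χ 1 = Fintype.card F) :
    (∀ t : (data F).T, (data F).jac χ t = 1) ∧ (data F).cf χ 0 = 1 ∧ χ = (data F).ind 1 - 1 := by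
  obtain ⟨lam, χ', h1, h2, h3, h4, h5, h6, h7⟩ := (data F).steinberg_cases hasAnti hχ hdeg
  have e1 : χ' = 1 := eq_one_of_degree_one h4 h5 (by rw [h6]; exact one_ne_zero)
  have e2 : ∀ t, (data F).jac χ' t = 1 := by
    intro t
    rw [e1, Data.jac_def]
    simp only [Pi.one_apply, Finset.sum_const, Finset.card_univ, nsmul_eq_mul, mul_one]
    exact inv_mul_cancel₀ (cardF_ne F)
  have e3 : lam = 1 := by
    ext t
    rw [← h3 t, e2, MonoidHom.one_apply, Units.val_one]
  refine ⟨fun t => by rw [h2, ← h3, e2], ?_, ?_⟩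
  · rw [← Data.jac_one, h2, ← h3, e2]
  · rw [← e3, h7, e1, add_sub_cancel_right]

end finite

end Cfsg.Agent.H670.SL2

namespace Cfsg.Agent.H670.GL2

open Matrix Cfsg.Agent.Characters.Core Cfsg.Agent.H670.RankOne

universe v

variable {F : Type v} [Field F]

theorem mem_B_iff (g : GeneralLinearGroup (Fin 2) F) : g ∈ (data F).B ↔ e10 g = 0 := by
  constructor
  · rintro ⟨s, _, ⟨u, rfl⟩, rfl⟩
    rw [data_X, mul10, x10, x11, tor10]
    ring
  · intro h
    rcases (data F).bruhat g with ⟨s, t, ht, rfl⟩ | ⟨s, r, t, ⟨u, rfl⟩, rfl⟩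
    · exact ⟨s, t, ht, rfl⟩
    · exfalso
      rw [data_X, data_X, data_w] at h
      simp only [mul00, mul01, mul10, mul11, x00, x01, x10, x11, tor00, tor01, tor10, tor11,
        wel00, wel01, wel10, wel11] at h
      apply u.1.ne_zero
      linear_combination h

/-- An element without eigenvectors has no conjugate in the Borel subgroup. -/
theorem ell_notMem {g : GeneralLinearGroup (Fin 2) F}
    (hg : ∀ (c : F) (v : Fin 2 → F), v ≠ 0 → (g : Matrix (Fin 2) (Fin 2) F).mulVec v ≠ c • v)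
    (y : GeneralLinearGroup (Fin 2) F) : y⁻¹ * g * y ∉ (data F).B := by
  intro h
  rw [mem_B_iff] at h
  set b := y⁻¹ * g * y with hb
  have h1 : g * y = y * b := by rw [hb]; group
  refine hg (e00 b) ![e00 y, e10 y] ?_ ?_
  · intro h2
    have h3 : e00 y = 0 := congrFun h2 0
    have h4 : e10 y = 0 := congrFun h2 1
    have h5 := det_ne y
    rw [h3, h4] at h5
    simp at h5
  · have h3 := congrArg e00 h1
    have h4 := congrArg e10 h1
    rw [mul00, mul00, h, mul_zero, add_zero] at h3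
    rw [mul10, mul10, h, mul_zero, add_zero] at h4
    funext i
    fin_cases i
    · show (g : Matrix (Fin 2) (Fin 2) F).mulVec ![e00 y, e10 y] 0 = e00 b * e00 y
      rw [Matrix.mulVec, dotProduct, Fin.sum_univ_two]
      rw [mul_comm (e00 b), ← h3]
      rfl
    · show (g : Matrix (Fin 2) (Fin 2) F).mulVec ![e00 y, e10 y] 1 = e00 b * e10 y
      rw [Matrix.mulVec, dotProduct, Fin.sum_univ_two]
      rw [mul_comm (e00 b), ← h4]
      rfl

theorem tor_of_diag {g : GeneralLinearGroup (Fin 2) F} (h01 : e01 g = 0) (h10 : e10 g = 0) :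
    ∃ u : Fˣ × Fˣ, g = tor u ∧ (u.1 : F) = e00 g ∧ (u.2 : F) = e11 g := by
  have hdet := det_ne g
  rw [h10, mul_zero, sub_zero] at hdet
  refine ⟨(Units.mk0 _ (left_ne_zero_of_mul hdet), Units.mk0 _ (right_ne_zero_of_mul hdet)),
    ?_, rfl, rfl⟩
  apply ext4
  · rfl
  · exact h01
  · exact h10
  · rfl

end Cfsg.Agent.H670.GL2
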