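import Cfsg.Agent.H670.PSolv

/-!
# The derived length of a Sylow `p`-subgroup and the number of characters of degree divisible by `p`
(helper670)

* `nSing_quotient_le`, `nSing_quotient_lt` : `nSing` and quotients;
* `bound_step_coprime`, `bound_step_pgroup` : the inductive steps of the bound
  `dl(P) ≤ nSing p G + 1` for a normal `p'`-subgroup and an abelian normal `p`-subgroup;
* `bound_of_pSolvable` : the bound for `p`-solvable groups.
-/

set_option autoImplicit false

open Cfsg
open scoped ComplexConjugate commutatorElement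

namespace Cfsg.Agent.H670.PSing

open Cfsg.Agent.Characters.Core Cfsg.Agent.OddOrderCharacters.IndRes
  Cfsg.Agent.OddOrderCharacters.PF9.CliffGen Cfsg.Agent.Blocks.Knorr

universe u

section

variable {G : Type u} [Group G] [Finite G] {p : ℕ}

/-- Inflation of characters of degree divisible by `p`. -/
noncomputable def inflSing (p : ℕ) (N : Subgroup G) [N.Normal]
    (χ : {χ : IrrCharacter (G ⧸ N) // p ∣ charDegree (χ : G ⧸ N → ℂ)}) :
    {χ : IrrCharacter G // p ∣ charDegree (χ : G → ℂ)} :=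
  ⟨⟨(χ.1 : G ⧸ N → ℂ) ∘ (QuotientGroup.mk' N),
    isIrr_comp (QuotientGroup.mk' N) (QuotientGroup.mk'_surjective _) χ.1.2⟩, by
    have h : charDegree ((χ.1 : G ⧸ N → ℂ) ∘ (QuotientGroup.mk' N)) =
        charDegree (χ.1 : G ⧸ N → ℂ) := by
      apply charDegree_eq_of
      show (χ.1 : G ⧸ N → ℂ) (QuotientGroup.mk' N 1) = _
      rw [map_one, charDegree_eq χ.1.2]
    show p ∣ charDegree ((χ.1 : G ⧸ N → ℂ) ∘ (QuotientGroup.mk' N))
    rw [h]
    exact χ.2⟩

omit [Finite G] in
theorem inflSing_apply (N : Subgroup G) [N.Normal]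
    (χ : {χ : IrrCharacter (G ⧸ N) // p ∣ charDegree (χ : G ⧸ N → ℂ)}) (g : G) :
    ((inflSing p N χ).1 : G → ℂ) g = (χ.1 : G ⧸ N → ℂ) (QuotientGroup.mk' N g) := rfl

omit [Finite G] in
theorem inflSing_injective (N : Subgroup G) [N.Normal] :
    Function.Injective (inflSing p N) := by
  intro χ ψ h
  apply Subtype.ext
  apply Subtype.ext
  funext x
  obtain ⟨g, rfl⟩ := QuotientGroup.mk'_surjective N x
  rw [← inflSing_apply, ← inflSing_apply, h]

theorem nSing_quotient_le (N : Subgroup G) [N.Normal] : nSing p (G ⧸ N) ≤ nSing p G := by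
  have : Finite (IrrCharacter G) := finite_irr
  exact Nat.card_le_card_of_injective (inflSing p N) (inflSing_injective N)

theorem nSing_quotient_lt (N : Subgroup G) [N.Normal] {χ : G → ℂ} (hχ : IsIrrCharacter G χ)
    (hd : p ∣ charDegree χ) (hne : ∃ n ∈ N, χ n ≠ χ 1) : nSing p (G ⧸ N) < nSing p G := by
  classical
  have : Finite (IrrCharacter G) := finite_irr
  have : Finite (IrrCharacter (G ⧸ N)) := finite_irr
  have := Fintype.ofFinite {χ : IrrCharacter G // p ∣ charDegree (χ : G → ℂ)}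
  have := Fintype.ofFinite {χ : IrrCharacter (G ⧸ N) // p ∣ charDegree (χ : G ⧸ N → ℂ)}
  unfold nSing
  rw [Nat.card_eq_fintype_card, Nat.card_eq_fintype_card]
  refine Fintype.card_lt_of_injective_of_notMem (inflSing p N) (inflSing_injective N)
    (b := ⟨⟨χ, hχ⟩, hd⟩) ?_
  rintro ⟨β, hβ⟩
  obtain ⟨n, hn, hne⟩ := hne
  apply hne
  have h1 : ∀ g, χ g = (β.1 : G ⧸ N → ℂ) (QuotientGroup.mk' N g) := by
    intro g
    rw [← inflSing_apply, hβ]
  have h2 : QuotientGroup.mk' N n = 1 := (QuotientGroup.eq_one_iff n).2 hn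
  rw [h1, h1, map_one, h2]

theorem nSing_pos {χ : G → ℂ} (hχ : IsIrrCharacter G χ) (hd : p ∣ charDegree χ) :
    0 < nSing p G := by
  have : Finite (IrrCharacter G) := finite_irr
  have : Nonempty {χ : IrrCharacter G // p ∣ charDegree (χ : G → ℂ)} := ⟨⟨⟨χ, hχ⟩, hd⟩⟩
  exact Nat.card_pos

theorem forall_of_nSing_eq_zero (h : nSing p G = 0) :
    ∀ χ : G → ℂ, IsIrrCharacter G χ → ¬ p ∣ charDegree χ := by
  intro χ hχ hd
  exact (nSing_pos hχ hd).ne' h

/-- The derived series of `P` modulo a normal subgroup of `G`. -/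
theorem derivedSeries_le_of_quotient [hp : Fact p.Prime] (N : Subgroup G) [N.Normal]
    (P : Sylow p G) {k : ℕ}
    (h : derivedSeries ↥((P.mapSurjective (QuotientGroup.mk'_surjective N) : Sylow p (G ⧸ N)) :
      Subgroup (G ⧸ N)) k = ⊥) :
    derivedSeries ↥(P : Subgroup G) k ≤ N.subgroupOf (P : Subgroup G) := by
  let f : (P : Subgroup G) →* ((P : Subgroup G).map (QuotientGroup.mk' N)) :=
    (QuotientGroup.mk' N).subgroupMap (P : Subgroup G)
  have h1 : (derivedSeries ↥(P : Subgroup G) k).map f ≤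
      derivedSeries ↥((P : Subgroup G).map (QuotientGroup.mk' N)) k :=
    map_derivedSeries_le_derivedSeries f k
  have h2 : derivedSeries ↥((P : Subgroup G).map (QuotientGroup.mk' N)) k = ⊥ := h
  rw [h2, le_bot_iff, Subgroup.map_eq_bot_iff] at h1
  intro x hx
  have h3 : f x = 1 := h1 hx
  have h4 : QuotientGroup.mk' N (x : G) = 1 := congrArg Subtype.val h3
  exact (QuotientGroup.eq_one_iff (x : G)).1 h4

/-- The inductive step for a normal `p'`-subgroup. -/
theorem bound_step_coprime [hp : Fact p.Prime] (N : Subgroup G) [N.Normal]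
    (hNp : ¬ p ∣ Nat.card N)
    (ih : ∀ Q : Sylow p (G ⧸ N), derivedSeries ↥(Q : Subgroup (G ⧸ N)) (nSing p (G ⧸ N) + 1) = ⊥)
    (P : Sylow p G) : derivedSeries ↥(P : Subgroup G) (nSing p G + 1) = ⊥ := by
  have h1 := derivedSeries_le_of_quotient N P (ih _)
  have h2 : N.subgroupOf (P : Subgroup G) = ⊥ := by
    rw [Subgroup.subgroupOf_eq_bot]
    have h3 : Nat.Coprime (Nat.card N) (Nat.card (P : Subgroup G)) := by
      obtain ⟨k, hk⟩ := (IsPGroup.iff_card (p := p)).1 P.isPGroup'
      rw [hk]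
      exact Nat.Coprime.pow_right _ ((Nat.Prime.coprime_iff_not_dvd hp.out).2 hNp).symm
    exact Subgroup.disjoint_of_coprime_natCard h3
  rw [h2, le_bot_iff] at h1
  rw [eq_bot_iff, ← h1]
  exact derivedSeries_antitone _ (by have := nSing_quotient_le (p := p) N; omega)

/-- The inductive step for an abelian normal `p`-subgroup. -/
theorem bound_step_pgroup [hp : Fact p.Prime] (N : Subgroup G) [N.Normal]
    (hNp : IsPGroup p N) (hN1 : N ≠ ⊥) (hNc : ∀ a ∈ N, ∀ b ∈ N, a * b = b * a)
    (hIM : ∀ T : Subgroup G, N ≤ T → IM p (T ⧸ N.subgroupOf T)) (hIMG : IM p G)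
    (ih : ∀ Q : Sylow p (G ⧸ N), derivedSeries ↥(Q : Subgroup (G ⧸ N)) (nSing p (G ⧸ N) + 1) = ⊥)
    (P : Sylow p G) : derivedSeries ↥(P : Subgroup G) (nSing p G + 1) = ⊥ := by
  -- a term of the derived series contained in `N`
  have key : ∀ k : ℕ, derivedSeries ↥(P : Subgroup G) k ≤ N.subgroupOf (P : Subgroup G) →
      derivedSeries ↥(P : Subgroup G) (k + 1) = ⊥ := by
    intro k hk
    rw [derivedSeries_succ, eq_bot_iff, Subgroup.commutator_le]
    intro a ha b hb
    have h1 := hNc a (hk ha) b (hk hb)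
    rw [Subgroup.mem_bot, commutatorElement_eq_one_iff_mul_comm]
    exact Subtype.ext h1
  by_cases h0 : nSing p G = 0
  · -- `P` is abelian
    have h1 := (hIMG (forall_of_nSing_eq_zero h0) P).2
    rw [h0, zero_add, derivedSeries_one, commutator_def, eq_bot_iff, Subgroup.commutator_le]
    intro a _ b _
    rw [Subgroup.mem_bot, commutatorElement_eq_one_iff_mul_comm]
    exact Subtype.ext (h1 a a.2 b b.2)
  by_cases hdeg : ∀ χ : G → ℂ, IsIrrCharacter G χ → (∃ n ∈ N, χ n ≠ χ 1) → ¬ p ∣ charDegree χ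
  · have h1 := comm_mem N hNp hN1 hdeg hIM P
    have h2 := key 1 (by
      rw [derivedSeries_one, commutator_def, Subgroup.commutator_le]
      intro a _ b _
      exact h1 a a.2 b b.2)
    rw [eq_bot_iff, ← h2]
    exact derivedSeries_antitone _ (by omega)
  · push Not at hdeg
    obtain ⟨χ, hχ, hne, hd⟩ := hdeg
    have h1 := nSing_quotient_lt N hχ hd hne
    have h2 := key _ (derivedSeries_le_of_quotient N P (ih _))
    rw [eq_bot_iff, ← h2]
    exact derivedSeries_antitone _ (by omega)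

/-- A nontrivial normal `p`-subgroup contains a nontrivial abelian one. -/
theorem exists_abelian_normal [hp : Fact p.Prime] (N : Subgroup G) [hN : N.Normal]
    (hNp : IsPGroup p N) (hN1 : N ≠ ⊥) :
    ∃ A : Subgroup G, A.Normal ∧ IsPGroup p A ∧ A ≠ ⊥ ∧ ∀ a ∈ A, ∀ b ∈ A, a * b = b * a := by
  have : Nontrivial N := (Subgroup.nontrivial_iff_ne_bot N).2 hN1
  refine ⟨(Subgroup.center N).map N.subtype, ConjAct.normal_of_characteristic_of_normal,
    (hNp.to_subgroup _).map _, ?_, ?_⟩
  · rw [Ne, Subgroup.map_eq_bot_iff_of_injective _ N.subtype_injective]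
    exact (Subgroup.nontrivial_iff_ne_bot _).1 hNp.center_nontrivial
  · rintro _ ⟨a, ha, rfl⟩ _ ⟨b, hb, rfl⟩
    have h := (Subgroup.mem_center_iff.1 ha b).symm
    exact congrArg Subtype.val h

end

theorem bound_of_pSolvable_aux {p : ℕ} [hp : Fact p.Prime] (n : ℕ) :
    ∀ (G : Type u) [Group G] [Finite G], Nat.card G ≤ n → IsPSolvable p G →
      ∀ P : Sylow p G, derivedSeries ↥(P : Subgroup G) (nSing p G + 1) = ⊥ := by
  induction n with
  | zero =>
    intro G _ _ hn
    exact absurd hn (by have := Nat.card_pos (α := G); omega)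
  | succ n ih =>
    intro G _ _ hn hG P
    rcases subsingleton_or_nontrivial G with hs | hnt
    · exact Subsingleton.elim _ _
    obtain ⟨N, hN, hN1, -, hN2⟩ := Lib.PSolvable.sep_of_pSolvable p hG ⊥ ⊤ inferInstance inferInstance
      bot_lt_top
    rw [Subgroup.relIndex_bot_left] at hN2
    have hNne : N ≠ ⊥ := hN1.ne'
    have hq : ∀ (M : Subgroup G), M ≠ ⊥ → Nat.card (G ⧸ M) ≤ n := by
      intro M hM
      have h1 := Subgroup.card_eq_card_quotient_mul_card_subgroup M
      have h2 : 1 < Nat.card M := by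
        rw [Subgroup.one_lt_card_iff_ne_bot]; exact hM
      have h3 : 0 < Nat.card (G ⧸ M) := Nat.card_pos
      nlinarith
    rcases hN2 with ⟨m, hm⟩ | hc
    · obtain ⟨A, hA, hAp, hA1, hAc⟩ := exists_abelian_normal N (IsPGroup.of_card hm) hNne
      exact bound_step_pgroup A hAp hA1 hAc
        (fun T _ => IM_of_pSolvable (PLocal.PSolvable.isPSolvable_quotient
          (PLocal.PSolvable.isPSolvable_subgroup hG T) _))
        (IM_of_pSolvable hG)
        (ih (G ⧸ A) (hq A hA1) (PLocal.PSolvable.isPSolvable_quotient hG A)) P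
    · exact bound_step_coprime N ((Nat.Prime.coprime_iff_not_dvd hp.out).1 hc.symm)
        (ih (G ⧸ N) (hq N hNne) (PLocal.PSolvable.isPSolvable_quotient hG N)) P

/-- The derived length of a Sylow `p`-subgroup of a `p`-solvable group is at most one more than the
number of irreducible characters of degree divisible by `p`. -/
theorem bound_of_pSolvable {p : ℕ} [hp : Fact p.Prime] {G : Type u} [Group G] [Finite G]
    (hG : IsPSolvable p G) (P : Sylow p G) :
    derivedSeries ↥(P : Subgroup G) (nSing p G + 1) = ⊥ :=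
  bound_of_pSolvable_aux _ G le_rfl hG P

end Cfsg.Agent.H670.PSing
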