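import Cfsg.Agent.H670.RankOne
import Cfsg.Agent.Characters.CCBasic
import Cfsg.Agent.HKS.Pair
import Mathlib

/-!
# Characters of rank one groups (helper670)

Fourier coefficients on the root group, the Jacquet formula, multiplicity one, and the counting
identities.
-/

set_option autoImplicit false

open Cfsg
open scoped ComplexConjugate

namespace Cfsg.Agent.H670.RankOne

open Cfsg.Agent.Characters.Core

universe u v

section fourier

variable (F : Type v) [Field F] [Fintype F]

/-- The primitive additive character of a finite field. -/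
noncomputable def psi : AddChar F ℂ := AddChar.FiniteField.primitiveChar_to_Complex F

theorem psi_prim : (psi F).IsPrimitive := AddChar.FiniteField.primitiveChar_to_Complex_isPrimitive F

theorem cardF_ne : (Fintype.card F : ℂ) ≠ 0 := Nat.cast_ne_zero.2 Fintype.card_ne_zero

variable {F}

theorem sum_psi [DecidableEq F] (b : F) :
    ∑ x : F, psi F (x * b) = if b = 0 then (Fintype.card F : ℂ) else 0 := by
  rw [AddChar.sum_mulShift b (psi_prim F)]
  split_ifs <;> simp

theorem psi_conj (x : F) : conj (psi F x) = psi F (-x) := by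
  rw [AddChar.starComp_apply (Nat.pos_of_ne_zero (CharP.ringChar_ne_zero_of_finite F)),
    AddChar.inv_apply]

/-- Fourier coefficients. -/
noncomputable def four (f : F → ℂ) (c : F) : ℂ :=
  (Fintype.card F : ℂ)⁻¹ * ∑ s : F, f s * psi F (-(s * c))

theorem four_def (f : F → ℂ) (c : F) :
    four f c = (Fintype.card F : ℂ)⁻¹ * ∑ s : F, f s * psi F (-(s * c)) := rfl

theorem four_zero (f : F → ℂ) : four f 0 = (Fintype.card F : ℂ)⁻¹ * ∑ s : F, f s := by
  rw [four_def]
  simp

theorem four_inv (f : F → ℂ) (s : F) : ∑ c : F, four f c * psi F (s * c) = f s := by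
  classical
  have h : ∀ c : F, four f c * psi F (s * c) =
      (Fintype.card F : ℂ)⁻¹ * ∑ r : F, f r * psi F (c * (s - r)) := by
    intro c
    rw [four_def, mul_assoc, Finset.sum_mul]
    congr 1
    refine Finset.sum_congr rfl fun r _ => ?_
    rw [mul_assoc, ← AddChar.map_add_eq_mul]
    congr 2
    ring
  rw [Finset.sum_congr rfl fun c _ => h c, ← Finset.mul_sum, Finset.sum_comm]
  simp only [← Finset.mul_sum, sum_psi]
  rw [Finset.sum_eq_single s]
  · rw [sub_self, if_pos rfl, mul_comm (f s), inv_mul_cancel_left₀ (cardF_ne F)]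
  · intro r _ hr
    rw [if_neg (fun h => hr (sub_eq_zero.1 h).symm), mul_zero]
  · exact fun h => absurd (Finset.mem_univ _) h

theorem four_add (f g : F → ℂ) (c : F) : four (fun s => f s + g s) c = four f c + four g c := by
  rw [four_def, four_def, four_def, ← mul_add, ← Finset.sum_add_distrib]
  congr 1
  refine Finset.sum_congr rfl fun s _ => ?_
  ring

theorem four_sum {ι : Type*} (t : Finset ι) (f : ι → F → ℂ) (c : F) :
    four (fun s => ∑ i ∈ t, f i s) c = ∑ i ∈ t, four (f i) c := by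
  simp only [four_def, Finset.sum_mul]
  rw [Finset.sum_comm, Finset.mul_sum]

theorem four_smul (a : ℂ) (f : F → ℂ) (c : F) : four (fun s => a * f s) c = a * four f c := by
  simp only [four_def, Finset.mul_sum]
  refine Finset.sum_congr rfl fun s _ => ?_
  ring

theorem four_mul (f : F → ℂ) (u : Fˣ) (c : F) (h : ∀ s, f (u * s) = f s) :
    four f (u * c) = four f c := by
  simp only [four_def]
  congr 1
  refine Fintype.sum_equiv (Units.mulLeft u) _ _ fun s => ?_
  rw [Units.mulLeft_apply, h]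
  congr 2
  ring

/-- The Fourier coefficients of the delta-like functions `f s = y` for `s ≠ 0`. -/
theorem four_of_const (f : F → ℂ) (y : ℂ) (h : ∀ s, s ≠ 0 → f s = y) (c : F) [Decidable (c = 0)] :
    four f c = (Fintype.card F : ℂ)⁻¹ * (f 0 - y) + if c = 0 then y else 0 := by
  classical
  have h1 : ∑ s : F, f s * psi F (-(s * c)) =
      (f 0 - y) + y * ∑ s : F, psi F (s * (-c)) := by
    rw [← Finset.add_sum_erase Finset.univ _ (Finset.mem_univ (0 : F)),
      ← Finset.add_sum_erase Finset.univ (fun s : F => psi F (s * (-c))) (Finset.mem_univ (0 : F))]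
    rw [zero_mul, neg_zero, zero_mul, AddChar.map_zero_eq_one, mul_add, mul_one, mul_one,
      ← add_assoc, sub_add_cancel, Finset.mul_sum]
    congr 1
    refine Finset.sum_congr rfl fun s hs => ?_
    rw [h s (Finset.ne_of_mem_erase hs), mul_neg]
  rw [four_def, h1, sum_psi, mul_add]
  congr 1
  by_cases hc : c = 0
  · rw [if_pos (neg_eq_zero.2 hc), if_pos hc, mul_comm y, inv_mul_cancel_left₀ (cardF_ne F)]
  · rw [if_neg (fun h => hc (neg_eq_zero.1 h)), if_neg hc, mul_zero, mul_zero]

/-- The linear characters of the additive group. -/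
noncomputable def psiHom (c : F) : Multiplicative F →* ℂˣ :=
  MonoidHom.toHomUnits
    { toFun := fun s => psi F (s.toAdd * c)
      map_one' := by rw [toAdd_one, zero_mul, AddChar.map_zero_eq_one]
      map_mul' := fun s t => by rw [toAdd_mul, add_mul, AddChar.map_add_eq_mul] }

theorem psiHom_apply (c : F) (s : Multiplicative F) : (psiHom c s : ℂ) = psi F (s.toAdd * c) := rfl

end fourier

/-- An anti-multiplicative map as in Gelfand's trick. -/
def HasAnti {G : Type u} [Group G] {F : Type v} [Field F] (D : Data G F) : Prop :=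
  ∃ τ : G → G, (∀ x y, τ (x * y) = τ y * τ x) ∧ (∀ s, τ (D.X s) = D.X s) ∧
    (∀ t ∈ D.T, τ (D.w * t) = D.w * t) ∧ ∀ t : D.T, D.a t = 1 → τ t = t

namespace Data

variable {G : Type u} [Group G] {F : Type v} [Field F] [Fintype F] (D : Data G F)

/-- The Fourier coefficients of a function on `G` along the root group. -/
noncomputable def cf (χ : G → ℂ) (c : F) : ℂ := four (fun s => χ (D.X s)) c

theorem cf_def (χ : G → ℂ) (c : F) : D.cf χ c = four (fun s => χ (D.X s)) c := rfl

theorem cf_zero (χ : G → ℂ) : D.cf χ 0 = (Fintype.card F : ℂ)⁻¹ * ∑ s : F, χ (D.X s) :=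
  four_zero _

theorem sum_X (χ : G → ℂ) : ∑ s : F, χ (D.X s) = (Fintype.card F : ℂ) * D.cf χ 0 := by
  rw [cf_zero, mul_inv_cancel_left₀ (cardF_ne F)]

theorem apply_X (χ : G → ℂ) (s : F) : χ (D.X s) = ∑ c : F, D.cf χ c * psi F (s * c) :=
  (four_inv (fun s => χ (D.X s)) s).symm

theorem apply_one (χ : G → ℂ) : χ 1 = ∑ c : F, D.cf χ c := by
  have h := D.apply_X χ 0
  rw [D.X_zero] at h
  rw [h]
  refine Finset.sum_congr rfl fun c _ => ?_
  rw [zero_mul, AddChar.map_zero_eq_one, mul_one]

theorem cf_add (χ χ' : G → ℂ) (c : F) : D.cf (χ + χ') c = D.cf χ c + D.cf χ' c :=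
  four_add _ _ c

theorem cf_sum {ι : Type*} (t : Finset ι) (f : ι → G → ℂ) (c : F) :
    D.cf (∑ i ∈ t, f i) c = ∑ i ∈ t, D.cf (f i) c := by
  have := four_sum t (fun i s => f i (D.X s)) c
  rw [cf_def]
  simp only [Finset.sum_apply]
  exact this

theorem cf_smul (a : ℂ) (χ : G → ℂ) (c : F) : D.cf (a • χ) c = a * D.cf χ c :=
  four_smul a _ c

theorem cf_one [Decidable ((0 : F) = 0)] : D.cf (1 : G → ℂ) 0 = 1 := by
  rw [cf_def, four_of_const (fun s => (1 : G → ℂ) (D.X s)) 1 (fun s _ => rfl) 0, if_pos rfl]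
  simp

theorem cf_one_ne {c : F} (hc : c ≠ 0) : D.cf (1 : G → ℂ) c = 0 := by
  classical
  rw [cf_def, four_of_const (fun s => (1 : G → ℂ) (D.X s)) 1 (fun s _ => rfl) c, if_neg hc]
  simp

theorem cf_eq_classInner (χ : G → ℂ) (c : F) :
    D.cf χ c = classInner (χ ∘ D.xh) (fun s => (psiHom c s : ℂ)) := by
  rw [classInner_def, cf_def, four_def, Nat.card_eq_fintype_card, Fintype.card_multiplicative]
  congr 1
  refine Fintype.sum_equiv Multiplicative.ofAdd _ _ fun s => ?_
  rw [psiHom_apply, psi_conj]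
  rfl

theorem cf_nat {χ : G → ℂ} (hχ : IsCharacter G χ) (c : F) : ∃ n : ℕ, D.cf χ c = n := by
  rw [D.cf_eq_classInner]
  exact classInner_isNat (isCharacter_comp D.xh hχ) (Characters.Linear.isCharacter_hom _)

theorem cf_mul {χ : G → ℂ} (hχ : IsClassFunction G χ) (t : D.T) (c : F) :
    D.cf χ (D.a t * c) = D.cf χ c := by
  rw [cf_def, cf_def]
  apply four_mul
  intro s
  show χ (D.X ((D.a t : F) * s)) = χ (D.X s)
  rw [← D.conj_X, hχ]

variable [Fintype G]

theorem cf_zero_or_one (hA : HasAnti D) {χ : G → ℂ} (hχ : IsIrrCharacter G χ) {c : F} (hc : c ≠ 0) :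
    D.cf χ c = 0 ∨ D.cf χ c = 1 := by
  obtain ⟨τ, h1, h2, h3, h4⟩ := hA
  rw [D.cf_eq_classInner]
  refine Gelfand.mult_le_one D.xh (psiHom c) τ h1 (fun a => h2 _) ?_ hχ
  intro g
  rcases D.bruhat g with ⟨s, t, ht, rfl⟩ | ⟨s, r, t, ht, rfl⟩
  · by_cases hat : D.a ⟨t, ht⟩ = 1
    · left
      refine ⟨1, 1, ?_, by simp⟩
      have h5 := h4 ⟨t, ht⟩ hat
      have h6 := D.tX ⟨t, ht⟩ s
      rw [hat, Units.val_one, one_mul] at h6
      rw [h1, h2, map_one, one_mul, mul_one]
      exact (congrArg (· * D.X s) h5).trans h6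
    · right
      have h5 : (D.a ⟨t, ht⟩ : F) - 1 ≠ 0 := by
        intro h
        apply hat
        apply Units.ext
        rw [Units.val_one]
        exact sub_eq_zero.1 h
      have h6 := psi_prim F (mul_ne_zero hc h5)
      obtain ⟨x, hx⟩ := AddChar.ne_one_iff.1 h6
      refine ⟨Multiplicative.ofAdd ((D.a ⟨t, ht⟩ : F) * x), Multiplicative.ofAdd x, ?_, ?_⟩
      · show D.X ((D.a ⟨t, ht⟩ : F) * x) * (D.X s * t) = D.X s * t * D.X x
        have h7 := D.tX ⟨t, ht⟩ x
        rw [mul_assoc (D.X s)]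
        have h8 : t * D.X x = D.X ((D.a ⟨t, ht⟩ : F) * x) * t := h7
        rw [h8, ← mul_assoc, ← mul_assoc, D.X_comm]
      · intro h
        apply hx
        have h7 := congrArg Units.val h
        rw [psiHom_apply, psiHom_apply, toAdd_ofAdd, toAdd_ofAdd] at h7
        rw [AddChar.mulShift_apply]
        have h8 : c * ((D.a ⟨t, ht⟩ : F) - 1) * x = (D.a ⟨t, ht⟩ : F) * x * c + -(x * c) := by ring
        rw [h8, AddChar.map_add_eq_mul, h7, ← AddChar.map_add_eq_mul, add_neg_cancel,
          AddChar.map_zero_eq_one]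
  · left
    refine ⟨Multiplicative.ofAdd (r - s), Multiplicative.ofAdd (s - r), ?_, ?_⟩
    · show τ (D.X s * D.w * t * D.X r) = D.X (r - s) * (D.X s * D.w * t * D.X r) * D.X (s - r)
      rw [mul_assoc (D.X s), h1, h1, h2, h2, h3 t ht]
      have h5 : D.X r = D.X (r - s) * D.X s := by rw [← D.X_add, sub_add_cancel]
      have h6 : D.X s = D.X r * D.X (s - r) := by rw [← D.X_add, add_sub_cancel]
      calc D.X r * (D.w * t * D.X s) = (D.X (r - s) * D.X s) * (D.w * t * (D.X r * D.X (s - r))) := by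
            rw [← h5, ← h6]
        _ = _ := by group
    · rw [← map_mul, ← ofAdd_add]
      have : r - s + (s - r) = 0 := by ring
      rw [this, ofAdd_zero, map_one]

theorem cf_ind_zero (lam : D.T →* ℂˣ) : D.cf (D.ind lam) 0 = 2 := by
  classical
  rw [cf_def, four_of_const (fun s => D.ind lam (D.X s)) 1 (fun s hs => D.ind_X lam hs) 0,
    if_pos rfl]
  show (Fintype.card F : ℂ)⁻¹ * (D.ind lam (D.X 0) - 1) + 1 = 2
  rw [D.X_zero, D.ind_one, add_sub_cancel_right, inv_mul_cancel₀ (cardF_ne F)]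
  norm_num

theorem cf_ind {c : F} (hc : c ≠ 0) (lam : D.T →* ℂˣ) : D.cf (D.ind lam) c = 1 := by
  classical
  rw [cf_def, four_of_const (fun s => D.ind lam (D.X s)) 1 (fun s hs => D.ind_X lam hs) c,
    if_neg hc]
  show (Fintype.card F : ℂ)⁻¹ * (D.ind lam (D.X 0) - 1) + 0 = 1
  rw [D.X_zero, D.ind_one, add_sub_cancel_right, inv_mul_cancel₀ (cardF_ne F), add_zero]

end Data

end Cfsg.Agent.H670.RankOne
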