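import Cfsg.Agent.H670.Gelfand
import Cfsg.Agent.OddOrderCharacters.IndRes
import Cfsg.Agent.OddOrderCharacters.Clifford
import Mathlib

/-!
# Rank one groups with abelian root group and torus (helper670)

`Data G F` : a group `G` with a root subgroup `X : F → G`, a commutative subgroup `T` normalizing it and
acting by a homomorphism `a : T →* Fˣ`, a Weyl element `w` and the Bruhat decomposition
`G = B ∪ U w B`. Group theory and the Mackey formula for the characters induced from `B`.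
-/

set_option autoImplicit false

open Cfsg
open scoped ComplexConjugate

namespace Cfsg.Agent.H670.RankOne

open Cfsg.Agent.Characters.Core

universe u v

/-- Rank one data. -/
structure Data (G : Type u) [Group G] (F : Type v) [Field F] where
  /-- the root group -/
  X : F → G
  /-- the torus -/
  T : Subgroup G
  /-- the Weyl element -/
  w : G
  /-- the root -/
  a : T →* Fˣ
  X_add : ∀ r s : F, X (r + s) = X r * X s
  X_inj : Function.Injective X
  conj_X : ∀ (t : T) (s : F), (t : G) * X s * (t : G)⁻¹ = X ((a t : F) * s)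
  comm_T : ∀ s t : T, s * t = t * s
  w_mem : ∀ t ∈ T, w * t * w⁻¹ ∈ T
  w_sq : w * w ∈ T
  bruhat : ∀ g : G, (∃ s : F, ∃ t ∈ T, g = X s * t) ∨
    ∃ s r : F, ∃ t ∈ T, g = X s * w * t * X r
  opp : ∀ r s : F, ∀ t ∈ T, w * X r * w⁻¹ = X s * t → r = 0

namespace Data

variable {G : Type u} [Group G] {F : Type v} [Field F] (D : Data G F)

theorem X_zero : D.X 0 = 1 := by
  have h := D.X_add 0 0
  rw [add_zero] at h
  exact left_eq_mul.1 h

theorem X_neg (s : F) : D.X (-s) = (D.X s)⁻¹ := by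
  rw [eq_inv_iff_mul_eq_one, ← D.X_add, neg_add_cancel, D.X_zero]

theorem X_comm (r s : F) : D.X r * D.X s = D.X s * D.X r := by
  rw [← D.X_add, add_comm, D.X_add]

/-- The root group as a homomorphism. -/
def xh : Multiplicative F →* G where
  toFun s := D.X s.toAdd
  map_one' := D.X_zero
  map_mul' _ _ := D.X_add _ _

theorem xh_apply (s : Multiplicative F) : D.xh s = D.X s.toAdd := rfl

theorem tX (t : D.T) (s : F) : (t : G) * D.X s = D.X ((D.a t : F) * s) * t := by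
  rw [← D.conj_X]; group

theorem Xt (t : D.T) (s : F) : D.X s * (t : G) = t * D.X (((D.a t)⁻¹ : Fˣ) * s) := by
  rw [D.tX, ← mul_assoc, ← Units.val_mul, mul_inv_cancel, Units.val_one, one_mul]

theorem w_inv_mem (t : G) (ht : t ∈ D.T) : D.w⁻¹ * t * D.w ∈ D.T := by
  have h1 := D.T.mul_mem (D.T.mul_mem (D.T.inv_mem D.w_sq) (D.w_mem t ht)) D.w_sq
  have h2 : (D.w * D.w)⁻¹ * (D.w * t * D.w⁻¹) * (D.w * D.w) = D.w⁻¹ * t * D.w := by group
  rwa [h2] at h1

/-- The Borel subgroup. -/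
def B : Subgroup G where
  carrier := {g | ∃ s : F, ∃ t ∈ D.T, g = D.X s * t}
  one_mem' := ⟨0, 1, D.T.one_mem, by rw [D.X_zero, one_mul]⟩
  mul_mem' := by
    rintro _ _ ⟨s, t, ht, rfl⟩ ⟨s', t', ht', rfl⟩
    refine ⟨s + (D.a ⟨t, ht⟩ : F) * s', t * t', D.T.mul_mem ht ht', ?_⟩
    have h := D.tX ⟨t, ht⟩ s'
    rw [D.X_add]
    calc D.X s * t * (D.X s' * t') = D.X s * (t * D.X s') * t' := by group
      _ = D.X s * (D.X ((D.a ⟨t, ht⟩ : F) * s') * t) * t' := by rw [h]
      _ = _ := by group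
  inv_mem' := by
    rintro _ ⟨s, t, ht, rfl⟩
    refine ⟨(D.a ⟨t⁻¹, D.T.inv_mem ht⟩ : F) * (-s), t⁻¹, D.T.inv_mem ht, ?_⟩
    have h := D.tX ⟨t⁻¹, D.T.inv_mem ht⟩ (-s)
    rw [← h, D.X_neg, mul_inv_rev]

theorem mem_B {g : G} : g ∈ D.B ↔ ∃ s : F, ∃ t ∈ D.T, g = D.X s * t := Iff.rfl

theorem X_mem (s : F) : D.X s ∈ D.B := ⟨s, 1, D.T.one_mem, by rw [mul_one]⟩

theorem T_le : D.T ≤ D.B := fun t ht => ⟨0, t, ht, by rw [D.X_zero, one_mul]⟩

theorem opp' {r : F} (h : D.w * D.X r * D.w⁻¹ ∈ D.B) : r = 0 := by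
  obtain ⟨s, t, ht, h⟩ := h
  exact D.opp r s t ht h

theorem opp_inv {r : F} (h : D.w⁻¹ * D.X r * D.w ∈ D.B) : r = 0 := by
  apply D.opp'
  have h1 := D.B.mul_mem (D.B.mul_mem (D.T_le D.w_sq) h) (D.B.inv_mem (D.T_le D.w_sq))
  have h2 : D.w * D.w * (D.w⁻¹ * D.X r * D.w) * (D.w * D.w)⁻¹ = D.w * D.X r * D.w⁻¹ := by group
  rwa [h2] at h1

theorem w_notMem : D.w ∉ D.B := by
  intro h
  exact one_ne_zero (D.opp' (r := (1 : F)) (D.B.mul_mem (D.B.mul_mem h (D.X_mem 1)) (D.B.inv_mem h)))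

theorem X_mem_T {s : F} (h : D.X s ∈ D.T) : s = 0 := D.opp' (D.T_le (D.w_mem _ h))

theorem cell_notMem (s r : F) {t : G} (ht : t ∈ D.T) : D.X s * D.w * t * D.X r ∉ D.B := by
  intro h
  apply D.w_notMem
  have h1 := D.B.mul_mem (D.B.mul_mem (D.B.inv_mem (D.X_mem s)) h)
    (D.B.inv_mem (D.B.mul_mem (D.T_le ht) (D.X_mem r)))
  have h2 : (D.X s)⁻¹ * (D.X s * D.w * t * D.X r) * (t * D.X r)⁻¹ = D.w := by group
  rwa [h2] at h1

theorem Xt_inj {s s' : F} {t t' : G} (ht : t ∈ D.T) (ht' : t' ∈ D.T)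
    (h : D.X s * t = D.X s' * t') : s = s' ∧ t = t' := by
  have h1 : D.X (s - s') = t' * t⁻¹ := by
    rw [sub_eq_neg_add, D.X_add, D.X_neg]
    have : (D.X s')⁻¹ * D.X s = (D.X s')⁻¹ * (D.X s * t) * t⁻¹ := by group
    rw [this, h]; group
  have h2 := D.X_mem_T (h1 ▸ D.T.mul_mem ht' (D.T.inv_mem ht))
  have h3 : s = s' := sub_eq_zero.1 h2
  refine ⟨h3, ?_⟩
  rw [h3] at h
  exact mul_left_cancel h

theorem cell_inj {s r s' r' : F} {t t' : G} (ht : t ∈ D.T) (ht' : t' ∈ D.T)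
    (h : D.X s * D.w * t * D.X r = D.X s' * D.w * t' * D.X r') : s = s' ∧ t = t' ∧ r = r' := by
  have h1 : D.w⁻¹ * D.X (s - s') * D.w = t' * D.X r' * (D.X r)⁻¹ * t⁻¹ := by
    rw [sub_eq_neg_add, D.X_add, D.X_neg]
    have : D.w⁻¹ * ((D.X s')⁻¹ * D.X s) * D.w =
        D.w⁻¹ * (D.X s')⁻¹ * (D.X s * D.w * t * D.X r) * (D.X r)⁻¹ * t⁻¹ := by group
    rw [this, h]; group
  have h2 : s - s' = 0 := by
    apply D.opp_inv
    rw [h1]
    exact D.B.mul_mem (D.B.mul_mem (D.B.mul_mem (D.T_le ht') (D.X_mem _)) (D.B.inv_mem (D.X_mem _)))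
      (D.B.inv_mem (D.T_le ht))
  have h3 : s = s' := sub_eq_zero.1 h2
  rw [h3, mul_assoc, mul_assoc, mul_assoc, mul_assoc] at h
  have h4 : t * D.X r = t' * D.X r' := mul_left_cancel (mul_left_cancel h)
  rw [D.tX ⟨t, ht⟩, D.tX ⟨t', ht'⟩] at h4
  obtain ⟨h5, h6⟩ := D.Xt_inj ht ht' h4
  have h7 : t = t' := h6
  subst h7
  refine ⟨h3, rfl, ?_⟩
  exact mul_left_cancel₀ (Units.ne_zero _) h5

/-- `B` is in bijection with `F × T`. -/
noncomputable def equivB : F × D.T ≃ D.B :=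
  Equiv.ofBijective (fun p => ⟨D.X p.1 * p.2, p.1, p.2, p.2.2, rfl⟩) (by
    constructor
    · rintro ⟨s, t⟩ ⟨s', t'⟩ h
      obtain ⟨h1, h2⟩ := D.Xt_inj t.2 t'.2 (congrArg Subtype.val h)
      exact Prod.ext h1 (Subtype.ext h2)
    · rintro ⟨_, s, t, ht, rfl⟩
      exact ⟨(s, ⟨t, ht⟩), rfl⟩)

/-- The complement of `B` is in bijection with `F × T × F`. -/
noncomputable def equivCell : F × D.T × F ≃ {g : G // g ∉ D.B} :=
  Equiv.ofBijective (fun p => ⟨D.X p.1 * D.w * p.2.1 * D.X p.2.2, D.cell_notMem _ _ p.2.1.2⟩) (by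
    constructor
    · rintro ⟨s, t, r⟩ ⟨s', t', r'⟩ h
      obtain ⟨h1, h2, h3⟩ := D.cell_inj t.2 t'.2 (congrArg Subtype.val h)
      exact Prod.ext h1 (Prod.ext (Subtype.ext h2) h3)
    · rintro ⟨g, hg⟩
      rcases D.bruhat g with ⟨s, t, ht, rfl⟩ | ⟨s, r, t, ht, rfl⟩
      · exact absurd ⟨s, t, ht, rfl⟩ hg
      · exact ⟨(s, ⟨t, ht⟩, r), rfl⟩)

theorem card_B [Finite G] [Fintype F] : Nat.card D.B = Fintype.card F * Nat.card D.T := by
  rw [← Nat.card_congr D.equivB, Nat.card_prod, Nat.card_eq_fintype_card]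

theorem card_compl [Finite G] [Fintype F] :
    Nat.card {g : G // g ∉ D.B} = Fintype.card F * Nat.card D.B := by
  rw [← Nat.card_congr D.equivCell, Nat.card_prod, Nat.card_prod, Nat.card_eq_fintype_card, D.card_B,
    mul_comm (Nat.card D.T)]

theorem card_G [Finite G] [Fintype F] :
    Nat.card G = (Fintype.card F + 1) * Nat.card D.B := by
  classical
  have : Fintype G := Fintype.ofFinite G
  have h := Fintype.card_subtype_compl (fun g : G => g ∈ D.B)
  have h1 := D.card_compl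
  rw [Nat.card_eq_fintype_card] at h1 ⊢
  have h2 : Nat.card D.B = Fintype.card {g : G // g ∈ D.B} := Nat.card_eq_fintype_card
  have h3 : Fintype.card {g : G // g ∈ D.B} ≤ Fintype.card G := Fintype.card_subtype_le _
  rw [← h2] at h h3
  rw [h1] at h
  rw [add_mul, one_mul]
  omega

theorem index_B [Finite G] [Fintype F] : D.B.index = Fintype.card F + 1 := by
  have h1 := D.B.card_mul_index
  rw [D.card_G, mul_comm] at h1
  exact Nat.eq_of_mul_eq_mul_right Nat.card_pos h1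

/-- The projection of the Borel subgroup to the torus. -/
noncomputable def proj : D.B →* D.T where
  toFun b := (D.equivB.symm b).2
  map_one' := by
    have h : D.equivB.symm 1 = (0, 1) := by
      rw [Equiv.symm_apply_eq]
      apply Subtype.ext
      show (1 : G) = D.X 0 * ((1 : D.T) : G)
      rw [D.X_zero, one_mul, Subgroup.coe_one]
    rw [h]
  map_mul' b c := by
    obtain ⟨⟨s, t⟩, rfl⟩ := D.equivB.surjective b
    obtain ⟨⟨r, u⟩, rfl⟩ := D.equivB.surjective c
    have h : D.equivB.symm (D.equivB (s, t) * D.equivB (r, u)) = (s + (D.a t : F) * r, t * u) := by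
      rw [Equiv.symm_apply_eq]
      apply Subtype.ext
      show D.X s * (t : G) * (D.X r * (u : G)) = D.X (s + (D.a t : F) * r) * ((t * u : D.T) : G)
      rw [D.X_add, Subgroup.coe_mul]
      calc D.X s * (t : G) * (D.X r * (u : G)) = D.X s * ((t : G) * D.X r) * (u : G) := by group
        _ = D.X s * (D.X ((D.a t : F) * r) * t) * (u : G) := by rw [D.tX]
        _ = _ := by group
    rw [h, Equiv.symm_apply_apply, Equiv.symm_apply_apply]

theorem proj_mk (s : F) (t : D.T) (h : D.X s * (t : G) ∈ D.B) : D.proj ⟨D.X s * t, h⟩ = t := by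
  have h1 : (⟨D.X s * t, h⟩ : D.B) = D.equivB (s, t) := rfl
  show (D.equivB.symm ⟨D.X s * t, h⟩).2 = t
  rw [h1, Equiv.symm_apply_apply]

theorem proj_X (s : F) (h : D.X s ∈ D.B) : D.proj ⟨D.X s, h⟩ = 1 := by
  have h1 : (⟨D.X s, h⟩ : D.B) = ⟨D.X s * ((1 : D.T) : G), by
      rw [Subgroup.coe_one, mul_one]; exact h⟩ := by
    apply Subtype.ext
    show D.X s = D.X s * ((1 : D.T) : G)
    rw [Subgroup.coe_one, mul_one]
  rw [h1, proj_mk]

theorem proj_T (t : D.T) (h : (t : G) ∈ D.B) : D.proj ⟨t, h⟩ = t := by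
  have h1 : (⟨t, h⟩ : D.B) = ⟨D.X 0 * (t : G), by rw [D.X_zero, one_mul]; exact h⟩ := by
    apply Subtype.ext
    show (t : G) = D.X 0 * (t : G)
    rw [D.X_zero, one_mul]
  rw [h1, proj_mk]

/-- The action of the Weyl element on the torus. -/
def wT : D.T →* D.T where
  toFun t := ⟨D.w * t * D.w⁻¹, D.w_mem t t.2⟩
  map_one' := by
    apply Subtype.ext
    show D.w * ((1 : D.T) : G) * D.w⁻¹ = 1
    rw [Subgroup.coe_one]; group
  map_mul' s t := by
    apply Subtype.ext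
    show D.w * ((s * t : D.T) : G) * D.w⁻¹ = (D.w * s * D.w⁻¹) * (D.w * t * D.w⁻¹)
    rw [Subgroup.coe_mul]; group

theorem wT_coe (t : D.T) : (D.wT t : G) = D.w * t * D.w⁻¹ := rfl

theorem wT_coe' (t : D.T) : (D.wT t : G) = D.w⁻¹ * t * D.w := by
  have h1 := congrArg Subtype.val (D.comm_T ⟨_, D.w_sq⟩ (D.wT t))
  rw [Subgroup.coe_mul, Subgroup.coe_mul, D.wT_coe] at h1
  rw [D.wT_coe]
  have h2 : D.w⁻¹ * (t : G) * D.w = (D.w * D.w)⁻¹ * (D.w * t * D.w⁻¹ * (D.w * D.w)) := by group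
  rw [h2, ← h1]
  group

theorem wT_wT (t : D.T) : D.wT (D.wT t) = t := by
  apply Subtype.ext
  rw [D.wT_coe, D.wT_coe']
  group

/-- The function on `B` given by a character of the torus. -/
noncomputable def lift (lam : D.T →* ℂˣ) : D.B → ℂ := fun b => (lam (D.proj b) : ℂ)

theorem lift_apply (lam : D.T →* ℂˣ) (b : D.B) : D.lift lam b = (lam (D.proj b) : ℂ) := rfl

theorem isIrr_lift (lam : D.T →* ℂˣ) : IsIrrCharacter D.B (D.lift lam) :=
  Characters.Linear.isIrrCharacter_hom (lam.comp D.proj)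

theorem lift_mul (lam : D.T →* ℂˣ) (b c : D.B) :
    D.lift lam (b * c) = D.lift lam b * D.lift lam c := by
  rw [lift_apply, map_mul, map_mul, Units.val_mul]; rfl

theorem lift_conj (lam : D.T →* ℂˣ) (b c : D.B) :
    D.lift lam (c * b * c⁻¹) = D.lift lam b := by
  have h : D.proj (c * b * c⁻¹) = D.proj b := by
    rw [map_mul, map_mul, map_inv, D.comm_T (D.proj c), mul_inv_cancel_right]
  rw [lift_apply, h, lift_apply]

/-- `lift lam` extended by zero. -/
noncomputable def ext (lam : D.T →* ℂˣ) : G → ℂ := extendByZero D.B (D.lift lam)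

theorem ext_of_mem (lam : D.T →* ℂˣ) {g : G} (hg : g ∈ D.B) :
    D.ext lam g = D.lift lam ⟨g, hg⟩ := extendByZero_of_mem _ _ hg

theorem ext_of_notMem (lam : D.T →* ℂˣ) {g : G} (hg : g ∉ D.B) : D.ext lam g = 0 :=
  extendByZero_of_notMem _ _ hg

theorem ext_conj (lam : D.T →* ℂˣ) {b : G} (hb : b ∈ D.B) (g : G) :
    D.ext lam (b * g * b⁻¹) = D.ext lam g := by
  by_cases hg : g ∈ D.B
  · have h1 : b * g * b⁻¹ ∈ D.B := D.B.mul_mem (D.B.mul_mem hb hg) (D.B.inv_mem hb)
    rw [D.ext_of_mem lam h1, D.ext_of_mem lam hg]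
    exact D.lift_conj lam ⟨g, hg⟩ ⟨b, hb⟩
  · have h1 : b * g * b⁻¹ ∉ D.B := by
      intro h
      apply hg
      have h2 := D.B.mul_mem (D.B.mul_mem (D.B.inv_mem hb) h) hb
      have h3 : b⁻¹ * (b * g * b⁻¹) * b = g := by group
      rwa [h3] at h2
    rw [D.ext_of_notMem lam h1, D.ext_of_notMem lam hg]

theorem ext_conj' (lam : D.T →* ℂˣ) {b : G} (hb : b ∈ D.B) (g : G) :
    D.ext lam (b⁻¹ * g * b) = D.ext lam g := by
  have := D.ext_conj lam (D.B.inv_mem hb) g
  rwa [inv_inv] at this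

theorem ext_X (lam : D.T →* ℂˣ) (s : F) : D.ext lam (D.X s) = 1 := by
  rw [D.ext_of_mem lam (D.X_mem s), lift_apply, proj_X, map_one, Units.val_one]

theorem ext_Xt (lam : D.T →* ℂˣ) (s : F) (t : D.T) : D.ext lam (D.X s * t) = (lam t : ℂ) := by
  have hm : D.X s * (t : G) ∈ D.B := ⟨s, t, t.2, rfl⟩
  rw [D.ext_of_mem lam hm, lift_apply, proj_mk]

theorem ext_T (lam : D.T →* ℂˣ) (t : D.T) : D.ext lam t = (lam t : ℂ) := by
  rw [D.ext_of_mem lam (D.T_le t.2), lift_apply, proj_T]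

section sums

variable [Fintype G] [Fintype F]

open scoped Classical in
/-- Sum over `G` of a function that is right invariant under `B`. -/
theorem sum_right_inv (f : G → ℂ) (hf : ∀ g, ∀ b ∈ D.B, f (g * b) = f g) :
    ∑ g : G, f g = (Nat.card D.B : ℂ) * (f 1 + ∑ s : F, f (D.X s * D.w)) := by
  have h0 : ∑ g : G, f g = ∑ g : {g : G // g ∈ D.B}, f g + ∑ g : {g : G // g ∉ D.B}, f g := by
    rw [← Fintype.sum_subtype_add_sum_subtype (fun g : G => g ∈ D.B) f]
  have h1 : ∑ g : {g : G // g ∈ D.B}, f g = (Nat.card D.B : ℂ) * f 1 := by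
    have : ∀ g : {g : G // g ∈ D.B}, f g = f 1 := by
      intro g
      have := hf 1 g g.2
      rwa [one_mul] at this
    rw [Finset.sum_congr rfl fun g _ => this g, Finset.sum_const, Finset.card_univ, nsmul_eq_mul,
      ← Nat.card_eq_fintype_card]
  have h2 : ∑ g : {g : G // g ∉ D.B}, f g = (Nat.card D.B : ℂ) * ∑ s : F, f (D.X s * D.w) := by
    rw [← Equiv.sum_comp D.equivCell (fun g : {g : G // g ∉ D.B} => f g)]
    have h3 : ∀ p : F × D.T × F, f (D.equivCell p) = f (D.X p.1 * D.w) := by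
      rintro ⟨s, t, r⟩
      show f (D.X s * D.w * t * D.X r) = f (D.X s * D.w)
      rw [mul_assoc (D.X s * D.w)]
      exact hf _ _ (D.B.mul_mem (D.T_le t.2) (D.X_mem r))
    rw [Finset.sum_congr rfl fun p _ => h3 p, Fintype.sum_prod_type, Finset.mul_sum]
    refine Finset.sum_congr rfl fun s _ => ?_
    show ∑ _y : D.T × F, f (D.X s * D.w) = _
    rw [Finset.sum_const, Finset.card_univ, Fintype.card_prod, nsmul_eq_mul, D.card_B,
      ← Nat.card_eq_fintype_card, mul_comm (Nat.card D.T)]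
  rw [h0, h1, h2, mul_add]

/-- The induced character. -/
noncomputable def ind (lam : D.T →* ℂˣ) : G → ℂ := indFun D.B (D.lift lam)

omit [Fintype F] in
theorem ind_def (lam : D.T →* ℂˣ) : D.ind lam = indFun D.B (D.lift lam) := rfl

omit [Fintype F] in
theorem card_B_ne : (Nat.card D.B : ℂ) ≠ 0 := Nat.cast_ne_zero.2 Nat.card_pos.ne'

theorem ind_apply (lam : D.T →* ℂˣ) (g : G) :
    D.ind lam g = D.ext lam g +
      ∑ s : F, D.ext lam (D.w⁻¹ * (D.X s)⁻¹ * g * D.X s * D.w) := by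
  rw [ind_def, indFun_apply]
  have h := D.sum_right_inv (fun x => D.ext lam (x⁻¹ * g * x)) (by
    intro x b hb
    have h1 : (x * b)⁻¹ * g * (x * b) = b⁻¹ * (x⁻¹ * g * x) * b := by group
    show D.ext lam ((x * b)⁻¹ * g * (x * b)) = D.ext lam (x⁻¹ * g * x)
    rw [h1, D.ext_conj' lam hb])
  have h2 : ∑ x : G, extendByZero D.B (D.lift lam) (x⁻¹ * g * x) =
      ∑ x : G, D.ext lam (x⁻¹ * g * x) := rfl
  rw [h2, h, ← mul_assoc, inv_mul_cancel₀ D.card_B_ne, one_mul, inv_one, one_mul, mul_one]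
  congr 1
  refine Finset.sum_congr rfl fun s _ => ?_
  congr 1
  group

theorem ind_one (lam : D.T →* ℂˣ) : D.ind lam 1 = (Fintype.card F : ℂ) + 1 := by
  rw [ind_def, OddOrderCharacters.IndRes.indFun_apply_one, lift_apply, map_one, map_one,
    Units.val_one, mul_one, D.index_B]
  push_cast
  ring

theorem ind_X (lam : D.T →* ℂˣ) {r : F} (hr : r ≠ 0) : D.ind lam (D.X r) = 1 := by
  rw [D.ind_apply, D.ext_X]
  have h : ∀ s : F, D.ext lam (D.w⁻¹ * (D.X s)⁻¹ * D.X r * D.X s * D.w) = 0 := by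
    intro s
    apply D.ext_of_notMem
    intro h
    apply hr
    apply D.opp_inv
    have h1 : D.w⁻¹ * (D.X s)⁻¹ * D.X r * D.X s * D.w = D.w⁻¹ * D.X r * D.w := by
      rw [mul_assoc, mul_assoc, mul_assoc, ← mul_assoc (D.X r), D.X_comm r s]
      group
    rwa [h1] at h
  rw [Finset.sum_congr rfl fun s _ => h s, Finset.sum_const_zero, add_zero]

theorem ind_T (lam : D.T →* ℂˣ) {t : D.T} (ht : D.a t ≠ 1) :
    D.ind lam t = (lam t : ℂ) + (lam (D.wT t) : ℂ) := by
  classical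
  rw [D.ind_apply, D.ext_T]
  congr 1
  have hu : ((D.a t)⁻¹ : Fˣ) ≠ 1 := by
    intro h
    exact ht (inv_eq_one.1 h)
  have hconj : ∀ s : F, D.w⁻¹ * (D.X s)⁻¹ * (t : G) * D.X s * D.w =
      (D.wT t : G) * (D.w⁻¹ * D.X ((1 - (((D.a t)⁻¹ : Fˣ) : F)) * s) * D.w) := by
    intro s
    rw [D.wT_coe', sub_mul, one_mul, sub_eq_neg_add, D.X_add, D.X_neg]
    have h1 : (D.X s)⁻¹ * (t : G) = (t : G) * (D.X ((((D.a t)⁻¹ : Fˣ) : F) * s))⁻¹ := by
      rw [← D.X_neg, ← D.X_neg, D.Xt, mul_neg]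
    calc D.w⁻¹ * (D.X s)⁻¹ * (t : G) * D.X s * D.w = D.w⁻¹ * ((D.X s)⁻¹ * (t : G)) * D.X s * D.w := by
          group
      _ = D.w⁻¹ * ((t : G) * (D.X ((((D.a t)⁻¹ : Fˣ) : F) * s))⁻¹) * D.X s * D.w := by rw [h1]
      _ = _ := by group
  rw [Finset.sum_eq_single (0 : F)]
  · rw [hconj, mul_zero, D.X_zero, mul_one, inv_mul_cancel, mul_one, D.ext_T]
  · intro s _ hs
    apply D.ext_of_notMem
    intro h
    rw [hconj] at h
    have h2 := D.B.mul_mem (D.B.inv_mem (D.T_le (D.wT t).2)) h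
    rw [inv_mul_cancel_left] at h2
    have h3 := D.opp_inv h2
    rcases mul_eq_zero.1 h3 with h4 | h4
    · apply hu
      apply Units.ext
      rw [Units.val_one]
      exact (sub_eq_zero.1 h4).symm
    · exact hs h4
  · intro h
    exact absurd (Finset.mem_univ _) h

omit [Fintype F] in
/-- Elements with no conjugate in the Borel subgroup. -/
theorem ind_of_notMem (lam : D.T →* ℂˣ) {g : G} (h : ∀ x : G, x⁻¹ * g * x ∉ D.B) :
    D.ind lam g = 0 :=
  OddOrderCharacters.IndRes.indFun_eq_zero_of_forall _ _ h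

/-- Central elements of the torus. -/
theorem ind_central_mul (lam : D.T →* ℂˣ) {z : D.T} (hz : ∀ g : G, (z : G) * g = g * z) (g : G) :
    D.ind lam ((z : G) * g) = (lam z : ℂ) * D.ind lam g := by
  have hext : ∀ y : G, D.ext lam ((z : G) * y) = (lam z : ℂ) * D.ext lam y := by
    intro y
    by_cases hy : y ∈ D.B
    · have h1 : (z : G) * y ∈ D.B := D.B.mul_mem (D.T_le z.2) hy
      rw [D.ext_of_mem lam h1, D.ext_of_mem lam hy]
      have h2 : (⟨(z : G) * y, h1⟩ : D.B) = ⟨z, D.T_le z.2⟩ * ⟨y, hy⟩ := rfl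
      rw [h2, lift_mul, lift_apply, proj_T]
    · have h1 : (z : G) * y ∉ D.B := fun h => hy (by
        have := D.B.mul_mem (D.B.inv_mem (D.T_le z.2)) h
        rwa [inv_mul_cancel_left] at this)
      rw [D.ext_of_notMem lam h1, D.ext_of_notMem lam hy, mul_zero]
  rw [D.ind_apply, D.ind_apply, hext, mul_add, Finset.mul_sum]
  congr 1
  refine Finset.sum_congr rfl fun s _ => ?_
  rw [← hext]
  congr 1
  have h1 := hz (D.w⁻¹ * (D.X s)⁻¹)
  calc D.w⁻¹ * (D.X s)⁻¹ * ((z : G) * g) * D.X s * D.w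
      = (D.w⁻¹ * (D.X s)⁻¹ * (z : G)) * g * D.X s * D.w := by group
    _ = ((z : G) * (D.w⁻¹ * (D.X s)⁻¹)) * g * D.X s * D.w := by rw [h1]
    _ = _ := by group

/-- **The Mackey formula**. -/
theorem inner_ind (lam mu : D.T →* ℂˣ) [Decidable (lam = mu)] [Decidable (lam = mu.comp D.wT)] :
    classInner (D.ind lam) (D.ind mu) =
      (if lam = mu then 1 else 0) + (if lam = mu.comp D.wT then 1 else 0) := by
  classical
  have : Fintype D.B := Fintype.ofFinite _
  have : Fintype D.T := Fintype.ofFinite _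
  rw [ind_def, ind_def, OddOrderCharacters.Clifford.classInner_indFun_indFun]
  have hmu := isIrr_isClassFunction (D.isIrr_lift mu)
  -- the twist at `1` and at the cells
  have h1 : OddOrderCharacters.Clifford.twist D.B (D.lift lam) (D.lift mu) 1 =
      (Nat.card D.B : ℂ) * (if lam = mu then 1 else 0) := by
    rw [OddOrderCharacters.Clifford.twist_of_mem D.B _ _ hmu 1 D.B.one_mem,
      classInner_irr (D.isIrr_lift lam) (D.isIrr_lift mu)]
    congr 1
    have h2 : D.lift lam = D.lift mu ↔ lam = mu := by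
      constructor
      · intro h
        ext t
        have h3 := congrFun h ⟨t, D.T_le t.2⟩
        rwa [lift_apply, lift_apply, proj_T] at h3
      · rintro rfl; rfl
    simp only [h2]
  have h2 : ∀ s : F, OddOrderCharacters.Clifford.twist D.B (D.lift lam) (D.lift mu) (D.X s * D.w) =
      (Nat.card D.T : ℂ) * (if lam = mu.comp D.wT then 1 else 0) := by
    intro s
    rw [OddOrderCharacters.Clifford.twist_def]
    have h3 : ∀ b : D.B, extendByZero D.B (D.lift mu) ((D.X s * D.w)⁻¹ * b * (D.X s * D.w)) =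
        D.ext mu (D.w⁻¹ * ((D.X s)⁻¹ * b * D.X s) * D.w) := by
      intro b
      show D.ext mu _ = _
      congr 1
      group
    simp only [h3]
    -- conjugate by `X s`
    have h4 : ∑ b : D.B, D.lift lam b * conj (D.ext mu (D.w⁻¹ * ((D.X s)⁻¹ * b * D.X s) * D.w)) =
        ∑ b : D.B, D.lift lam b * conj (D.ext mu (D.w⁻¹ * b * D.w)) := by
      refine Fintype.sum_equiv (MulAut.conj (⟨D.X s, D.X_mem s⟩ : D.B)⁻¹).toEquiv _ _ fun b => ?_
      have h5 : ((MulAut.conj (⟨D.X s, D.X_mem s⟩ : D.B)⁻¹).toEquiv b : D.B) =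
          (⟨D.X s, D.X_mem s⟩ : D.B)⁻¹ * b * ((⟨D.X s, D.X_mem s⟩ : D.B)⁻¹)⁻¹ := rfl
      rw [h5, D.lift_conj]
      congr 3
      rw [inv_inv]
      rfl
    rw [h4]
    rw [← Equiv.sum_comp D.equivB, Fintype.sum_prod_type]
    -- only `s = 0` contributes
    have h6 : ∀ r : F, r ≠ 0 → ∀ t : D.T,
        D.lift lam (D.equivB (r, t)) * conj (D.ext mu (D.w⁻¹ * (D.equivB (r, t) : D.B) * D.w)) = 0 := by
      intro r hr t
      rw [D.ext_of_notMem, map_zero, mul_zero]
      intro h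
      apply hr
      apply D.opp_inv
      have h7 : D.w⁻¹ * ((D.equivB (r, t) : D.B) : G) * D.w =
          (D.w⁻¹ * D.X r * D.w) * (D.w⁻¹ * t * D.w) := by
        show D.w⁻¹ * (D.X r * (t : G)) * D.w = _
        group
      rw [h7] at h
      have h8 := D.B.mul_mem h (D.B.inv_mem (D.T_le (D.w_inv_mem t t.2)))
      rwa [mul_inv_cancel_right] at h8
    rw [Finset.sum_eq_single (0 : F)]
    rotate_left
    · intro r _ hr
      exact Finset.sum_eq_zero fun t _ => h6 r hr t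
    · intro h
      exact absurd (Finset.mem_univ _) h
    have h9 : ∀ t : D.T, D.lift lam (D.equivB (0, t)) *
        conj (D.ext mu (D.w⁻¹ * (D.equivB (0, t) : D.B) * D.w)) =
        (lam t : ℂ) * conj ((mu.comp D.wT) t : ℂ) := by
      intro t
      have e1 : ((D.equivB (0, t) : D.B) : G) = D.X 0 * (t : G) := rfl
      have e2 : D.lift lam (D.equivB (0, t)) = (lam t : ℂ) := by
        rw [lift_apply]
        have : D.proj (D.equivB (0, t)) = t := D.proj_mk 0 t _
        rw [this]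
      rw [e2, e1, D.X_zero, one_mul, ← D.wT_coe', D.ext_T]
      rfl
    rw [Finset.sum_congr rfl fun t _ => h9 t]
    have h10 := classInner_irr (Characters.Linear.isIrrCharacter_hom lam)
      (Characters.Linear.isIrrCharacter_hom (mu.comp D.wT))
    rw [classInner_def] at h10
    have h11 : (Nat.card D.T : ℂ) ≠ 0 := Nat.cast_ne_zero.2 Nat.card_pos.ne'
    have h12 : ((fun t => (lam t : ℂ)) = fun t => (((mu.comp D.wT) t : ℂˣ) : ℂ)) ↔
        lam = mu.comp D.wT := by
      constructor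
      · intro h
        ext t
        exact congrFun h t
      · rintro rfl; rfl
    simp only [h12] at h10
    rw [← h10, mul_inv_cancel_left₀ h11]
  have h3 := D.sum_right_inv (fun x => OddOrderCharacters.Clifford.twist D.B (D.lift lam) (D.lift mu) x)
    (by
      intro x b hb
      show OddOrderCharacters.Clifford.twist D.B (D.lift lam) (D.lift mu) (x * b) = _
      rw [OddOrderCharacters.Clifford.twist_def, OddOrderCharacters.Clifford.twist_def]
      refine Finset.sum_congr rfl fun c _ => ?_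
      congr 2
      have h4 : (x * b)⁻¹ * c * (x * b) = b⁻¹ * (x⁻¹ * c * x) * b := by group
      rw [h4]
      exact D.ext_conj' mu hb _)
  rw [h3]
  simp only [h1, h2]
  rw [Finset.sum_const, Finset.card_univ, nsmul_eq_mul]
  have h4 : (Fintype.card F : ℂ) * ((Nat.card D.T : ℂ) * (if lam = mu.comp D.wT then 1 else 0)) =
      (Nat.card D.B : ℂ) * (if lam = mu.comp D.wT then 1 else 0) := by
    rw [D.card_B]
    push_cast
    ring
  rw [h4, ← mul_add, inv_mul_cancel_left₀ D.card_B_ne, inv_mul_cancel_left₀ D.card_B_ne]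

end sums

end Data

end Cfsg.Agent.H670.RankOne
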